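import Cfsg.Agent.Lib.Transfer.Basic

/-!
# Normal `p`-complements: API, Burnside, Frobenius
-/

namespace CfsgLib.Transfer

open Subgroup
open scoped commutatorElement

variable {G : Type*} [Group G] [Finite G] {p : ℕ} [Fact p.Prime]

theorem coprime_orderOf_of_not_dvd {N : Subgroup G} (h : ¬ p ∣ Nat.card N) {x : G} (hx : x ∈ N) :
    Nat.Coprime (orderOf x) p := by
  rw [Nat.coprime_comm, Nat.Prime.coprime_iff_not_dvd Fact.out]
  exact fun hd => h (hd.trans (N.orderOf_dvd_natCard hx))

/-- A normal `p'`-subgroup with `p`-quotient complements every Sylow `p`-subgroup. -/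
theorem isComplement'_of_coprime (N : Subgroup G) [N.Normal] (h : ¬ p ∣ Nat.card N)
    (hq : IsPGroup p (G ⧸ N)) (P : Sylow p G) : N.IsComplement' (P : Subgroup G) := by
  refine isComplement'_of_disjoint_and_mul_eq_univ ?_ ?_
  · refine disjoint_iff.mpr ((eq_bot_iff_forall _).mpr ?_)
    rintro x ⟨hx, hxP⟩
    obtain ⟨k, hk⟩ := P.2 ⟨x, hxP⟩
    have hk' : orderOf x ∣ p ^ k := orderOf_dvd_of_pow_eq_one (by simpa using congrArg Subtype.val hk)
    exact orderOf_eq_one_iff.mp
      (Nat.eq_one_of_dvd_coprimes ((coprime_orderOf_of_not_dvd h hx).pow_right k) dvd_rfl hk')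
  · rw [← normal_mul, sup_comm, sylow_sup_eq_top P N hq, coe_top]

theorem hasNormalPComplement_of_coprime (N : Subgroup G) [N.Normal] (h : ¬ p ∣ Nat.card N)
    (hq : IsPGroup p (G ⧸ N)) : Cfsg.HasNormalPComplement p G :=
  let P : Sylow p G := default
  ⟨P, N, inferInstance, isComplement'_of_coprime N h hq P⟩

/-- The normal `p`-complement is `O^p(G)`. -/
theorem eq_pResidual_of_isComplement' (P : Sylow p G) (N : Subgroup G) [N.Normal]
    (hN : N.IsComplement' (P : Subgroup G)) :
    N = Cfsg.pResidual p G ∧ ¬ p ∣ Nat.card N := by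
  have hc : ¬ p ∣ Nat.card N := by rw [← hN.index_eq_card]; exact P.not_dvd_index
  refine ⟨le_antisymm (fun x hx => mem_pResidual (coprime_orderOf_of_not_dvd hc hx)) ?_, hc⟩
  refine pResidual_le_of_isPGroup_quotient N ?_
  obtain ⟨k, hk⟩ := P.2.exists_card_eq
  exact IsPGroup.of_card (n := k) (by rw [← index, hN.symm.index_eq_card, hk])

theorem hasNormalPComplement_iff :
    Cfsg.HasNormalPComplement p G ↔ ¬ p ∣ Nat.card (Cfsg.pResidual p G) := by
  constructor
  · rintro ⟨P, N, hN, hc⟩
    haveI := hN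
    obtain ⟨h1, h2⟩ := eq_pResidual_of_isComplement' P N hc
    exact h1 ▸ h2
  · intro h
    haveI := pResidual_normal (G := G) (p := p)
    exact hasNormalPComplement_of_coprime _ h (isPGroup_quotient_of_pResidual_le _ le_rfl)

theorem hasNormalPComplement_iff_inf_eq_bot (P : Sylow p G) :
    Cfsg.HasNormalPComplement p G ↔ (P : Subgroup G) ⊓ Cfsg.pResidual p G = ⊥ := by
  haveI := pResidual_normal (G := G) (p := p)
  constructor
  · intro h
    have hc := isComplement'_of_coprime _ (hasNormalPComplement_iff.mp h)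
      (isPGroup_quotient_of_pResidual_le _ le_rfl) P
    rw [inf_comm]
    exact disjoint_iff.mp hc.disjoint
  · intro h
    rw [hasNormalPComplement_iff]
    intro hd
    obtain ⟨x, hx⟩ := exists_prime_orderOf_dvd_card' p hd
    have hx1 : (x : G) ≠ 1 := by
      intro he
      have : x = 1 := Subtype.ext he
      simp [this, (Fact.out : p.Prime).ne_one.symm] at hx
    have hpx : IsPGroup p (zpowers (x : G)) := by
      refine IsPGroup.of_card (n := 1) ?_
      rw [Nat.card_zpowers, Subgroup.orderOf_coe, hx, pow_one]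
    obtain ⟨R, hR⟩ := hpx.exists_le_sylow
    obtain ⟨g, rfl⟩ := MulAction.exists_smul_eq G P R
    obtain ⟨y, hy, e⟩ := hR (mem_zpowers (x : G))
    have e' : g * y * g⁻¹ = (x : G) := e
    have hyK : y ∈ Cfsg.pResidual p G := by
      have h1 := Subgroup.Normal.conj_mem inferInstance _ x.2 g⁻¹
      rw [← e'] at h1
      simpa [mul_assoc] using h1
    have : y ∈ (P : Subgroup G) ⊓ Cfsg.pResidual p G := ⟨hy, hyK⟩
    rw [h, mem_bot] at this
    exact hx1 (by rw [← e', this]; simp)

theorem hasNormalPComplement_of_injective {H : Type*} [Group H] [Finite H] (f : H →* G)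
    (hf : Function.Injective f) (h : Cfsg.HasNormalPComplement p G) :
    Cfsg.HasNormalPComplement p H := by
  rw [hasNormalPComplement_iff] at h ⊢
  intro hd
  refine h (hd.trans ?_)
  rw [← card_map_of_injective (K := Cfsg.pResidual p H) hf]
  exact card_dvd_of_le (map_pResidual_le f)

theorem hasNormalPComplement_subgroup (H : Subgroup G) (h : Cfsg.HasNormalPComplement p G) :
    Cfsg.HasNormalPComplement p H :=
  hasNormalPComplement_of_injective H.subtype H.subtype_injective h

theorem hasNormalPComplement_of_mulEquiv {H : Type*} [Group H] [Finite H] (e : G ≃* H)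
    (h : Cfsg.HasNormalPComplement p G) : Cfsg.HasNormalPComplement p H :=
  hasNormalPComplement_of_injective e.symm.toMonoidHom e.symm.injective h

theorem map_pResidual_of_surjective {H : Type*} [Group H] [Finite H] (f : G →* H)
    (hf : Function.Surjective f) : (Cfsg.pResidual p G).map f = Cfsg.pResidual p H := by
  haveI := pResidual_normal (G := G) (p := p)
  haveI := (inferInstance : (Cfsg.pResidual p G).Normal).map f hf
  refine le_antisymm (map_pResidual_le f) (pResidual_le_of_isPGroup_quotient _ ?_)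
  intro x
  induction x using QuotientGroup.induction_on with
  | H y =>
    obtain ⟨z, rfl⟩ := hf y
    obtain ⟨k, hk⟩ := exists_pow_mem_pResidual (p := p) z
    refine ⟨k, ?_⟩
    rw [← QuotientGroup.mk_pow, QuotientGroup.eq_one_iff, ← map_pow]
    exact mem_map_of_mem f hk

theorem hasNormalPComplement_of_surjective {H : Type*} [Group H] [Finite H] (f : G →* H)
    (hf : Function.Surjective f) (h : Cfsg.HasNormalPComplement p G) :
    Cfsg.HasNormalPComplement p H := by
  rw [hasNormalPComplement_iff] at h ⊢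
  rw [← map_pResidual_of_surjective f hf]
  exact fun hd => h (hd.trans (card_map_dvd _ f))

theorem hasNormalPComplement_of_le (K : Subgroup G) (hK : Cfsg.pResidual p G ≤ K)
    (h : Cfsg.HasNormalPComplement p K) : Cfsg.HasNormalPComplement p G := by
  rw [hasNormalPComplement_iff] at h ⊢
  intro hd
  refine h (hd.trans ?_)
  have hle : Cfsg.pResidual p G ≤ (Cfsg.pResidual p K).map K.subtype :=
    pResidual_le_iff.mpr fun x hx => ⟨⟨x, hK (mem_pResidual hx)⟩,
      mem_pResidual (by rwa [← orderOf_injective K.subtype K.subtype_injective]), rfl⟩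
  exact (card_dvd_of_le hle).trans (card_map_dvd _ _)

/-- Burnside. -/
theorem hasNormalPComplement_of_normalizer_le (P : Sylow p G)
    (h : normalizer ((P : Subgroup G) : Set G) ≤ centralizer ((P : Subgroup G) : Set G)) :
    Cfsg.HasNormalPComplement p G :=
  ⟨P, _, MonoidHom.normal_ker _, MonoidHom.ker_transferSylow_isComplement' P h⟩

/-- A simple group has no normal `p`-complement unless trivial on `p` or a `p`-group. -/
theorem simple_of_hasNormalPComplement [IsSimpleGroup G] (h : Cfsg.HasNormalPComplement p G) :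
    ¬ p ∣ Nat.card G ∨ IsPGroup p G := by
  haveI := pResidual_normal (G := G) (p := p)
  rw [hasNormalPComplement_iff] at h
  rcases IsSimpleGroup.eq_bot_or_eq_top_of_normal (Cfsg.pResidual p G) inferInstance with e | e
  · right
    intro g
    obtain ⟨k, hk⟩ := exists_pow_mem_pResidual (p := p) g
    rw [e, mem_bot] at hk
    exact ⟨k, hk⟩
  · left
    rwa [e, card_top] at h

theorem isPGroup_mem_of_mem_normalizer (P : Sylow p G) {u : G}
    (hu : u ∈ normalizer ((P : Subgroup G) : Set G)) (k : ℕ) (hk : u ^ p ^ k = 1) :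
    u ∈ (P : Subgroup G) := by
  have hp : IsPGroup p (zpowers u) := by
    obtain ⟨j, -, hj⟩ := (Nat.dvd_prime_pow Fact.out).mp (orderOf_dvd_of_pow_eq_one hk)
    exact IsPGroup.of_card (n := j) (by rw [Nat.card_zpowers, hj])
  have h1 := hp.inf_normalizer_sylow P
  exact (h1.le ⟨mem_zpowers u, hu⟩).2

/-- Frobenius' hypothesis: in every `p`-local the `p'`-elements centralise. -/
def FrobeniusCond (p : ℕ) (G : Type*) [Group G] : Prop :=
  ∀ Q : Subgroup G, IsPGroup p Q → ∀ g ∈ normalizer (Q : Set G),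
    Nat.Coprime (orderOf g) p → g ∈ centralizer (Q : Set G)

theorem frobeniusCond_of_le_sylow (P : Sylow p G)
    (h : ∀ Q : Subgroup G, Q ≤ (P : Subgroup G) → ∀ g ∈ normalizer (Q : Set G),
      Nat.Coprime (orderOf g) p → g ∈ centralizer (Q : Set G)) : FrobeniusCond p G := by
  intro Q hQ g hg hc
  obtain ⟨R, hR⟩ := hQ.exists_le_sylow
  obtain ⟨a, rfl⟩ := MulAction.exists_smul_eq G P R
  let e := MulAut.conj a⁻¹
  have hQ' : Q.map e.toMonoidHom ≤ (P : Subgroup G) := by
    rintro _ ⟨q, hq, rfl⟩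
    obtain ⟨y, hy, e'⟩ := hR hq
    have e'' : q = a * y * a⁻¹ := e'.symm
    simpa [e, e'', mul_assoc] using (show y ∈ (P : Subgroup G) from hy)
  have hn : e g ∈ normalizer (Q.map e.toMonoidHom : Set G) := by
    rw [mem_set_normalizer_iff]
    intro z
    rw [SetLike.mem_coe, SetLike.mem_coe, mem_map_equiv, mem_map_equiv]
    have := mem_set_normalizer_iff.mp hg (e.symm z)
    simpa [map_mul] using this
  have := h _ hQ' (e g) hn (hc.coprime_dvd_left (orderOf_map_dvd e.toMonoidHom g))
  rw [mem_centralizer_iff] at this ⊢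
  intro q hq
  apply e.injective
  simpa [map_mul] using this (e q) (mem_map_of_mem _ hq)

omit [Finite G] [Fact p.Prime] in
theorem FrobeniusCond.of_injective {H : Type*} [Group H] (f : H →* G)
    (hf : Function.Injective f) (h : FrobeniusCond p G) : FrobeniusCond p H := by
  intro Q hQ g hg hc
  have hn : f g ∈ normalizer (Q.map f : Set G) := by
    rw [mem_set_normalizer_iff]
    intro z
    constructor
    · rintro ⟨q, hq, rfl⟩
      exact ⟨g * q * g⁻¹, (mem_set_normalizer_iff.mp hg q).mp hq, by simp⟩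
    · rintro ⟨q, hq, e⟩
      refine ⟨g⁻¹ * q * g, (mem_set_normalizer_iff.mp hg _).mpr (by simpa [mul_assoc] using hq), ?_⟩
      simp [e, mul_assoc]
  have := h _ (hQ.map f) (f g) hn (by rwa [orderOf_injective f hf])
  rw [mem_centralizer_iff] at this ⊢
  intro q hq
  apply hf
  simpa [map_mul] using this (f q) (mem_map_of_mem _ hq)

/-- Frobenius' hypothesis makes every morphism between subgroups of `P` a conjugation in `P`. -/
theorem FrobeniusCond.fusion (h : FrobeniusCond p G) (P : Sylow p G) :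
    ∀ n : ℕ, ∀ Q : Subgroup G, Q ≤ (P : Subgroup G) →
      Nat.card (P : Subgroup G) - Nat.card Q = n →
      ∀ g : G, (∀ x ∈ Q, g * x * g⁻¹ ∈ (P : Subgroup G)) →
      ∃ u ∈ (P : Subgroup G), ∀ x ∈ Q, u * x * u⁻¹ = g * x * g⁻¹ := by
  intro n
  induction n using Nat.strong_induction_on with
  | _ n ih =>
  intro Q hQP hn g hg
  rcases eq_or_lt_of_le hQP with rfl | hlt
  · have hgN : g ∈ normalizer ((P : Subgroup G) : Set G) := by
      refine mem_normalizer_of_map_conj_eq (eq_of_le_of_card_ge ?_ ?_)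
      · rintro _ ⟨x, hx, rfl⟩
        exact hg x hx
      · exact (card_map_of_injective (MulAut.conj g).injective).ge
    -- split `g` into its `p`-part and its `p'`-part
    haveI := pResidual_normal (G := normalizer ((P : Subgroup G) : Set G)) (p := p)
    let S : Sylow p (normalizer ((P : Subgroup G) : Set G)) := P.subtype le_normalizer
    have h1 : (⟨g, hgN⟩ : normalizer ((P : Subgroup G) : Set G)) ∈
        (S : Subgroup _) ⊔ Cfsg.pResidual p _ := by
      rw [sylow_sup_pResidual]; trivial
    rw [← SetLike.mem_coe, mul_normal] at h1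
    obtain ⟨u, hu, c, hc, e⟩ := h1
    refine ⟨u, by simpa [S, mem_subgroupOf] using hu, fun x hx => ?_⟩
    have hcC : (c : G) ∈ centralizer ((P : Subgroup G) : Set G) := by
      have : Cfsg.pResidual p (normalizer ((P : Subgroup G) : Set G)) ≤
          (centralizer ((P : Subgroup G) : Set G)).subgroupOf _ :=
        pResidual_le_iff.mpr fun y hy => mem_subgroupOf.mpr
          (h _ P.2 _ y.2 (by rwa [Subgroup.orderOf_coe]))
      exact mem_subgroupOf.mp (this hc)
    have hcx := mem_centralizer_iff.mp hcC x hx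
    have e' : g = (u : G) * (c : G) := (congrArg Subtype.val e).symm
    rw [e']
    calc (u : G) * x * (u : G)⁻¹ = (u : G) * (x * (c : G)) * (c : G)⁻¹ * (u : G)⁻¹ := by group
      _ = (u : G) * c * x * ((u : G) * c)⁻¹ := by rw [hcx]; group
  · obtain ⟨R, hR⟩ : ∃ R : Subgroup G, R = Q.map (MulAut.conj g).toMonoidHom := ⟨_, rfl⟩
    have hRP : R ≤ (P : Subgroup G) := by
      rw [hR]
      rintro _ ⟨x, hx, rfl⟩
      exact hg x hx
    have hRcard : Nat.card R = Nat.card Q := by
      rw [hR]; exact card_map_of_injective (MulAut.conj g).injective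
    have grow : ∀ T : Subgroup G, T ≤ (P : Subgroup G) → Nat.card T < Nat.card (P : Subgroup G) →
        ∃ T' : Subgroup G, T ≤ T' ∧ T' ≤ (P : Subgroup G) ∧ Nat.card T < Nat.card T' ∧
          T' ≤ normalizer (T : Set G) := by
      intro T hT hlt'
      refine ⟨(P : Subgroup G) ⊓ normalizer (T : Set G), le_inf hT le_normalizer, inf_le_left, ?_,
        inf_le_right⟩
      by_contra hcon
      have hnc : NormalizerCondition (P : Subgroup G) :=
        haveI := P.2.isNilpotent
        Group.normalizerCondition_of_isNilpotent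
      have hTt : T.subgroupOf (P : Subgroup G) = ⊤ := by
        by_contra hne
        obtain ⟨x, hx, hx'⟩ := SetLike.exists_of_lt (hnc _ (lt_top_iff_ne_top.mpr hne))
        have hxN : (x : G) ∈ normalizer (T : Set G) := by
          rw [mem_set_normalizer_iff]
          intro z
          by_cases hz : z ∈ (P : Subgroup G)
          · exact mem_set_normalizer_iff.mp hx ⟨z, hz⟩
          · refine ⟨fun hh => absurd (hT hh) hz, fun hh => absurd (hT hh) fun h2 => hz ?_⟩
            have := mul_mem (mul_mem (inv_mem x.2) h2) x.2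
            simpa [mul_assoc] using this
        have heq : T = (P : Subgroup G) ⊓ normalizer (T : Set G) :=
          eq_of_le_of_card_ge (le_inf hT le_normalizer) (not_lt.mp hcon)
        exact hx' (mem_subgroupOf.mpr (by rw [heq]; exact ⟨x.2, hxN⟩))
      have := card_le_of_le (subgroupOf_eq_top.mp hTt)
      omega
    have hQlt : Nat.card Q < Nat.card (P : Subgroup G) := by
      by_contra hcon
      exact hlt.ne (eq_of_le_of_card_ge hQP (not_lt.mp hcon))
    obtain ⟨Q', hQQ', hQ'P, hQ'lt, hQ'N⟩ := grow Q hQP hQlt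
    obtain ⟨R', hRR', hR'P, hR'lt, hR'N⟩ := grow R hRP (hRcard ▸ hQlt)
    have hQ'gN : Q'.map (MulAut.conj g).toMonoidHom ≤ normalizer (R : Set G) := by
      rintro _ ⟨x, hx, rfl⟩
      rw [mem_set_normalizer_iff]
      intro z
      rw [hR, SetLike.mem_coe, SetLike.mem_coe, mem_map_equiv, mem_map_equiv]
      have := mem_set_normalizer_iff.mp (hQ'N hx) ((MulAut.conj g).symm z)
      simpa [mul_assoc] using this
    let N := normalizer (R : Set G)
    obtain ⟨S, hS⟩ := ((P.2.to_le hR'P).comap_subtype (K := N)).exists_le_sylow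
    obtain ⟨T, hT⟩ :=
      (((P.2.to_le hQ'P).map (MulAut.conj g).toMonoidHom).comap_subtype (K := N)).exists_le_sylow
    obtain ⟨k, hk⟩ := MulAction.exists_smul_eq N T S
    haveI := pResidual_normal (G := N) (p := p)
    have hkk : k ∈ (S : Subgroup N) ⊔ Cfsg.pResidual p N := by
      rw [sylow_sup_pResidual]; trivial
    rw [← SetLike.mem_coe, mul_normal] at hkk
    obtain ⟨s, hs, c, hc, e⟩ := hkk
    have hcC : (c : G) ∈ centralizer (R : Set G) := by
      have : Cfsg.pResidual p N ≤ (centralizer (R : Set G)).subgroupOf N :=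
        pResidual_le_iff.mpr fun y hy => mem_subgroupOf.mpr
          (h _ (P.2.to_le hRP) _ y.2 (by rwa [Subgroup.orderOf_coe]))
      exact mem_subgroupOf.mp (this hc)
    have hcS : ∀ x ∈ Q', ∃ w ∈ (S : Subgroup N),
        (w : G) = (c : G) * (g * x * g⁻¹) * (c : G)⁻¹ := by
      intro x hx
      let y : N := ⟨g * x * g⁻¹, hQ'gN ⟨x, hx, rfl⟩⟩
      have hyT : y ∈ (T : Subgroup N) :=
        hT (show (y : G) ∈ Q'.map (MulAut.conj g).toMonoidHom from ⟨x, hx, rfl⟩)
      have hky : k * y * k⁻¹ ∈ (S : Subgroup N) := hk ▸ ⟨y, hyT, rfl⟩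
      refine ⟨c * y * c⁻¹, ?_, rfl⟩
      have := mul_mem (mul_mem (inv_mem hs) hky) hs
      rw [← e] at this
      simpa [mul_assoc] using this
    have hSp : IsPGroup p ((S : Subgroup N).map N.subtype) := S.2.map _
    obtain ⟨P₁, hP₁⟩ := hSp.exists_le_sylow
    obtain ⟨a, rfl⟩ := MulAction.exists_smul_eq G P P₁
    have key : ∀ w ∈ (S : Subgroup N), a⁻¹ * (w : G) * a ∈ (P : Subgroup G) := by
      intro w hw
      obtain ⟨u, hu, e'⟩ := hP₁ (mem_map_of_mem _ hw)
      have e'' : (w : G) = a * u * a⁻¹ := e'.symm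
      simpa [e'', mul_assoc] using (show u ∈ (P : Subgroup G) from hu)
    obtain ⟨u₁, hu₁, hu₁'⟩ := ih _ (by omega) R' hR'P rfl a⁻¹ (fun x hx => by
      have := key ⟨x, hR'N hx⟩ (hS (by simpa [mem_subgroupOf] using hx))
      simpa using this)
    obtain ⟨u₂, hu₂, hu₂'⟩ := ih _ (by omega) Q' hQ'P rfl (a⁻¹ * ((c : G) * g)) (fun x hx => by
      obtain ⟨w, hw, e'⟩ := hcS x hx
      have := key w hw
      simpa [e', mul_assoc] using this)
    refine ⟨u₁⁻¹ * u₂, mul_mem (inv_mem hu₁) hu₂, fun x hx => ?_⟩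
    have hr : g * x * g⁻¹ ∈ R := by rw [hR]; exact ⟨x, hx, rfl⟩
    have hcr := mem_centralizer_iff.mp hcC _ hr
    have e1 := hu₁' _ (hRR' hr)
    have e2 := hu₂' _ (hQQ' hx)
    calc u₁⁻¹ * u₂ * x * (u₁⁻¹ * u₂)⁻¹ = u₁⁻¹ * (u₂ * x * u₂⁻¹) * u₁ := by group
      _ = u₁⁻¹ * (a⁻¹ * (((c : G) * (g * x * g⁻¹)) * (c : G)⁻¹) * a⁻¹⁻¹) * u₁ := by rw [e2]; group
      _ = u₁⁻¹ * (a⁻¹ * (g * x * g⁻¹) * a⁻¹⁻¹) * u₁ := by rw [← hcr]; group
      _ = g * x * g⁻¹ := by rw [← e1]; group

theorem FrobeniusCond.controls (h : FrobeniusCond p G) (P : Sylow p G) (x : G)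
    (hx : x ∈ (P : Subgroup G)) (g : G) (hy : g * x * g⁻¹ ∈ (P : Subgroup G)) :
    ∃ u ∈ (P : Subgroup G), u * x * u⁻¹ = g * x * g⁻¹ := by
  obtain ⟨u, hu, hu'⟩ := h.fusion P _ (zpowers x) (zpowers_le.mpr hx) rfl g (fun z hz => by
    obtain ⟨k, rfl⟩ := hz
    simpa [← conj_zpow] using zpow_mem hy k)
  exact ⟨u, hu, hu' x (mem_zpowers x)⟩

theorem focal_lt_of_controls (P : Sylow p G) (hP : (P : Subgroup G) ≠ ⊥)
    (hc : ∀ x ∈ (P : Subgroup G), ∀ g : G, g * x * g⁻¹ ∈ (P : Subgroup G) →
      ∃ k ∈ (P : Subgroup G), k * x * k⁻¹ = g * x * g⁻¹) :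
    (P : Subgroup G).focalSubgroup < (P : Subgroup G) := by
  refine lt_of_le_of_lt (focalSubgroup_le_of_controls hc) ?_
  haveI := P.2.isNilpotent
  haveI : Nontrivial (P : Subgroup G) := (nontrivial_iff_ne_bot _).mpr hP
  have hlt : commutator (P : Subgroup G) < ⊤ := Group.IsSolvable.commutator_lt_top_of_nontrivial _
  rw [← map_subtype_commutator]
  have h2 := map_subtype_lt_map_subtype.mpr hlt
  rwa [← MonoidHom.range_eq_map, range_subtype] at h2

universe u

/-- Frobenius' normal `p`-complement theorem. -/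
theorem hasNormalPComplement_of_frobeniusCond {G : Type u} [Group G] [Finite G]
    (h : FrobeniusCond p G) : Cfsg.HasNormalPComplement p G := by
  suffices H : ∀ n : ℕ, ∀ (G : Type u) [Group G] [Finite G], Nat.card G = n →
      FrobeniusCond p G → Cfsg.HasNormalPComplement p G from H _ G rfl h
  intro n
  induction n using Nat.strong_induction_on with
  | _ n ih =>
  intro G _ _ hn h
  let P : Sylow p G := default
  by_cases hP : (P : Subgroup G) = ⊥
  · exact (hasNormalPComplement_iff_inf_eq_bot P).mpr (by rw [hP, bot_inf_eq])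
  let K := (P : Subgroup G).transferFocal.ker
  have hK : K ≠ ⊤ := by
    intro he
    have h1 := ker_transferFocal_inf_eq_focalSubgroup P
    change K ⊓ _ = _ at h1
    rw [he, top_inf_eq] at h1
    exact (focal_lt_of_controls P hP fun x hx g hy => h.controls P x hx g hy).ne h1.symm
  refine hasNormalPComplement_of_le K (pResidual_le_ker_transferFocal P) ?_
  refine ih (Nat.card K) ?_ K rfl (h.of_injective K.subtype K.subtype_injective)
  rw [← hn]
  exact lt_of_le_of_ne (card_le_card_group K) fun he => hK (eq_top_of_card_eq _ he)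

theorem frobeniusCond_of_hasNormalPComplement (h : Cfsg.HasNormalPComplement p G) :
    FrobeniusCond p G := by
  haveI := pResidual_normal (G := G) (p := p)
  have hd := hasNormalPComplement_iff.mp h
  intro Q hQ g hg hc
  rw [mem_centralizer_iff]
  intro q hq
  have h1 : ⁅g, q⁆ ∈ Cfsg.pResidual p G :=
    commutator_le_left _ ⊤ (commutator_mem_commutator (mem_pResidual hc) (mem_top q))
  have h2 : ⁅g, q⁆ ∈ Q := by
    have := mul_mem ((mem_set_normalizer_iff.mp hg q).mp hq : g * q * g⁻¹ ∈ Q) (inv_mem hq)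
    simpa [commutatorElement_def] using this
  obtain ⟨k, hk⟩ := hQ ⟨_, h2⟩
  have h3 : ⁅g, q⁆ = 1 := orderOf_eq_one_iff.mp (Nat.eq_one_of_dvd_coprimes
    ((coprime_orderOf_of_not_dvd hd h1).pow_right k) dvd_rfl
    (orderOf_dvd_of_pow_eq_one (by simpa using congrArg Subtype.val hk)))
  exact ((commutatorElement_eq_one_iff_mul_comm).mp h3).symm

/-- If conjugate elements of `P` are already conjugate in `P`, Frobenius' condition holds. -/
theorem frobeniusCond_of_controls (P : Sylow p G)
    (hc : ∀ x ∈ (P : Subgroup G), ∀ g : G, g * x * g⁻¹ ∈ (P : Subgroup G) →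
      ∃ k ∈ (P : Subgroup G), k * x * k⁻¹ = g * x * g⁻¹) : FrobeniusCond p G := by
  refine frobeniusCond_of_le_sylow P fun Q hQ g hg hcop => ?_
  rw [mem_centralizer_iff]
  haveI := P.2.isNilpotent
  obtain ⟨m, hm⟩ := (Subgroup.nilpotent_iff_finite_ascending_central_series _).mp P.2.isNilpotent
  obtain ⟨Z, hZ, hZtop⟩ := hm
  have step : ∀ i : ℕ, ∀ x : (P : Subgroup G), x ∈ Z i → (x : G) ∈ Q →
      g * (x : G) * g⁻¹ = x := by
    intro i
    induction i with
    | zero =>
      intro x hx _
      rw [hZ.1, mem_bot] at hx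
      simp [hx]
    | succ i ihi =>
      intro x hx hxQ
      have hgx : g * (x : G) * g⁻¹ ∈ Q := (mem_set_normalizer_iff.mp hg _).mp hxQ
      obtain ⟨k, hk, e⟩ := hc x x.2 g (hQ hgx)
      let w := g * (x : G) * g⁻¹ * (x : G)⁻¹
      have hwQ : w ∈ Q := mul_mem hgx (inv_mem hxQ)
      have hwZ : (⟨w, hQ hwQ⟩ : (P : Subgroup G)) ∈ Z i := by
        have h1 := inv_mem (hZ.2 x i hx ⟨k, hk⟩)
        convert h1 using 1
        apply Subtype.ext
        simp only [w, commutatorElement_def, coe_mul, coe_inv, ← e]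
        group
      have hgw : g * w * g⁻¹ = w := ihi _ hwZ hwQ
      have hpow : ∀ n : ℕ, g ^ n * (x : G) * (g ^ n)⁻¹ = w ^ n * x := by
        intro n
        induction n with
        | zero => simp
        | succ n ihn =>
          calc g ^ (n + 1) * (x : G) * (g ^ (n + 1))⁻¹
              = g * (g ^ n * (x : G) * (g ^ n)⁻¹) * g⁻¹ := by rw [pow_succ']; group
            _ = g * (w ^ n * x) * g⁻¹ := by rw [ihn]
            _ = (g * w * g⁻¹) ^ n * (g * x * g⁻¹) := by rw [conj_pow]; group
            _ = w ^ n * (w * x) := by rw [hgw]; simp [w]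
            _ = w ^ (n + 1) * x := by rw [pow_succ]; exact (mul_assoc _ _ _).symm
      have h4 : orderOf w ∣ orderOf g := orderOf_dvd_of_pow_eq_one (by
        have := hpow (orderOf g)
        rw [pow_orderOf_eq_one] at this
        simpa using this)
      obtain ⟨j, hj⟩ := P.2 ⟨w, hQ hwQ⟩
      have h5 : w = 1 := orderOf_eq_one_iff.mp (Nat.eq_one_of_dvd_coprimes
        (hcop.pow_right j) h4 (orderOf_dvd_of_pow_eq_one (by simpa using congrArg Subtype.val hj)))
      exact mul_inv_eq_one.mp h5
  intro q hq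
  have := step m ⟨q, hQ hq⟩ (by rw [hZtop]; trivial) hq
  exact (mul_inv_eq_iff_eq_mul.mp this).symm

end CfsgLib.Transfer
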