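import Cfsg.Agent.Lib.Transfer.NormalComplement

/-!
# Abelian and nilpotent Hall subgroups, Burnside-type corollaries
-/

namespace CfsgLib.Transfer

open Subgroup
open scoped commutatorElement

variable {G : Type*} [Group G] [Finite G]

theorem eq_top_of_forall_prime_not_dvd_index {H : Subgroup G}
    (h : ∀ q : ℕ, q.Prime → ¬ q ∣ H.index) : H = ⊤ :=
  index_eq_one.mp (Nat.eq_one_iff_not_exists_prime_dvd.mpr h)

/-- A Hall subgroup has a normal complement when `G` has a normal `p`-complement for all its primes. -/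
theorem exists_normal_complement_of_forall (H : Subgroup G)
    (hHall : Nat.Coprime (Nat.card H) H.index)
    (h : ∀ p : ℕ, p.Prime → p ∣ Nat.card H → Cfsg.HasNormalPComplement p G) :
    ∃ N : Subgroup G, N.Normal ∧ N.IsComplement' H := by
  let N : Subgroup G := ⨅ p : {p : ℕ // p.Prime ∧ p ∣ Nat.card H}, Cfsg.pResidual (p : ℕ) G
  have hN : N.Normal := by
    refine Subgroup.normal_iInf_normal fun p => ?_
    exact pResidual_normal
  have hcop : ∀ q : ℕ, q.Prime → q ∣ Nat.card N → ¬ q ∣ Nat.card H := by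
    intro q hq hd hqH
    haveI := Fact.mk hq
    exact hasNormalPComplement_iff.mp (h q hq hqH) (hd.trans (card_dvd_of_le
      (iInf_le (fun p : {p : ℕ // p.Prime ∧ p ∣ Nat.card H} => Cfsg.pResidual (p : ℕ) G) ⟨q, hq, hqH⟩)))
  have htop : N ⊔ H = ⊤ := by
    refine eq_top_of_forall_prime_not_dvd_index fun q hq hd => ?_
    have hdH : q ∣ H.index := hd.trans (index_dvd_of_le le_sup_right)
    have hqH : ¬ q ∣ Nat.card H := fun h' => hq.ne_one (Nat.eq_one_of_dvd_coprimes hHall h' hdH)
    haveI := Fact.mk hq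
    let S : Sylow q G := default
    have hS : (S : Subgroup G) ≤ N := by
      refine le_iInf fun p x hx => mem_pResidual ?_
      obtain ⟨k, hk⟩ := S.2 ⟨x, hx⟩
      have hk' : x ^ q ^ k = 1 := by simpa using congrArg Subtype.val hk
      refine Nat.Coprime.coprime_dvd_left (orderOf_dvd_of_pow_eq_one hk') ?_
      exact Nat.Coprime.pow_left _ ((Nat.coprime_primes hq p.2.1).mpr fun e => hqH (e ▸ p.2.2))
    exact S.not_dvd_index (hd.trans (index_dvd_of_le (hS.trans le_sup_left)))
  refine ⟨N, hN, isComplement'_of_disjoint_and_mul_eq_univ ?_ ?_⟩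
  · exact disjoint_iff.mpr (inf_eq_bot_of_coprime (Nat.coprime_of_dvd hcop))
  · rw [← normal_mul, htop, coe_top]

universe u

/-- Abelian Hall subgroups of the same order are conjugate. -/
theorem abelian_hall_conj {G : Type u} [Group G] [Finite G] (A B : Subgroup G)
    (hA : IsMulCommutative A) (hB : IsMulCommutative B) (hc : Nat.card A = Nat.card B)
    (hHall : Nat.Coprime (Nat.card A) A.index) :
    ∃ g : G, A.map (MulAut.conj g).toMonoidHom = B := by
  suffices H : ∀ n : ℕ, ∀ (G : Type u) [Group G] [Finite G] (A B : Subgroup G), Nat.card A = n →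
      IsMulCommutative A → IsMulCommutative B → Nat.card A = Nat.card B →
      Nat.Coprime (Nat.card A) A.index → ∃ g : G, A.map (MulAut.conj g).toMonoidHom = B from
    H _ G A B rfl hA hB hc hHall
  intro n
  induction n using Nat.strong_induction_on with
  | _ n ih =>
  intro G _ _ A B hn hA hB hc hHall
  by_cases h1 : Nat.card A = 1
  · refine ⟨1, ?_⟩
    have e1 : A = ⊥ := eq_bot_of_card_eq A h1
    have e2 : B = ⊥ := eq_bot_of_card_eq B (hc ▸ h1)
    rw [e1, e2, Subgroup.map_bot]
  obtain ⟨p, hp, hpd⟩ := Nat.exists_prime_and_dvd h1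
  haveI := Fact.mk hp
  have hsyl : ∀ C : Subgroup G, Nat.card C = Nat.card A → ∃ S : Sylow p G, (S : Subgroup G) ≤ C := by
    intro C hC
    let Q : Sylow p C := default
    have hidx : ¬ p ∣ C.index := by
      have e : C.index = A.index :=
        Nat.eq_of_mul_eq_mul_left (Nat.card_pos (α := C))
          (by rw [card_mul_index, hC, card_mul_index])
      rw [e]
      exact fun hd => hp.ne_one (Nat.eq_one_of_dvd_coprimes hHall hpd hd)
    have hQi : ¬ p ∣ ((Q : Subgroup C).map C.subtype).index := by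
      rw [index_map_subtype]
      exact Nat.Prime.not_dvd_mul hp Q.not_dvd_index hidx
    exact ⟨(Q.2.map C.subtype).toSylow hQi, map_subtype_le _⟩
  obtain ⟨S, hS⟩ := hsyl A rfl
  obtain ⟨T, hT⟩ := hsyl B hc.symm
  obtain ⟨a, ha⟩ := MulAction.exists_smul_eq G S T
  obtain ⟨A', hA'⟩ : ∃ A' : Subgroup G, A' = A.map (MulAut.conj a).toMonoidHom := ⟨_, rfl⟩
  have hA'c : IsMulCommutative A' := by
    rw [hA']; infer_instance
  have hA'card : Nat.card A' = Nat.card A := by
    rw [hA']; exact card_map_of_injective (MulAut.conj a).injective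
  have hTA' : (T : Subgroup G) ≤ A' := by
    rw [← ha, hA']
    exact Subgroup.map_mono hS
  obtain ⟨C, hC⟩ : ∃ C : Subgroup G, C = centralizer ((T : Subgroup G) : Set G) := ⟨_, rfl⟩
  have hle : ∀ D : Subgroup G, IsMulCommutative D → (T : Subgroup G) ≤ D → D ≤ C := by
    intro D hD hTD
    rw [hC]
    exact (le_centralizer D).trans (centralizer_le hTD)
  have hAC := hle A' hA'c hTA'
  have hBC := hle B hB hT
  have hTC : (T : Subgroup G) ≤ C := hTA'.trans hAC
  let Z : Subgroup C := (T : Subgroup G).subgroupOf C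
  haveI : Z.Normal := by
    refine ⟨fun z hz c => ?_⟩
    rw [mem_subgroupOf] at hz ⊢
    have hc2 : (c : G) ∈ centralizer ((T : Subgroup G) : Set G) := hC ▸ c.2
    have h2 := mem_centralizer_iff.mp hc2 z hz
    simp only [coe_mul, coe_inv]
    rw [← h2, mul_inv_cancel_right]
    exact hz
  let f := QuotientGroup.mk' Z
  let A₁ := (A'.subgroupOf C).map f
  let B₁ := (B.subgroupOf C).map f
  have hcard : ∀ D : Subgroup G, D ≤ C → (T : Subgroup G) ≤ D →
      Nat.card ((D.subgroupOf C).map f) * Nat.card (T : Subgroup G) = Nat.card D := by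
    intro D hD hTD
    have hZ : Z ≤ D.subgroupOf C := fun x hx => mem_subgroupOf.mpr (hTD (mem_subgroupOf.mp hx))
    have h3 := index_map_eq (H := D.subgroupOf C) (f := f) (QuotientGroup.mk'_surjective Z)
      (by rwa [QuotientGroup.ker_mk'])
    have h4 := card_mul_index ((D.subgroupOf C).map f)
    have h5 := card_mul_index (D.subgroupOf C)
    have h6 := card_mul_index Z
    rw [h3, ← index_eq_card] at h4
    have e1 : Nat.card (D.subgroupOf C) = Nat.card D := Nat.card_congr (subgroupOfEquivOfLe hD).toEquiv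
    have e2 : Nat.card Z = Nat.card (T : Subgroup G) := Nat.card_congr (subgroupOfEquivOfLe hTC).toEquiv
    refine Nat.eq_of_mul_eq_mul_right (Nat.pos_of_ne_zero (D.subgroupOf C).index_ne_zero_of_finite) ?_
    rw [← e1, ← e2, h5, mul_right_comm, h4, mul_comm, h6]
  have hA1 := hcard A' hAC hTA'
  have hB1 := hcard B hBC hT
  have hTp : 1 < Nat.card (T : Subgroup G) := by
    have hd : p ∣ Nat.card (T : Subgroup G) :=
      T.dvd_card_of_dvd_card (hpd.trans (card_subgroup_dvd_card A))
    exact lt_of_lt_of_le hp.one_lt (Nat.le_of_dvd Nat.card_pos hd)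
  have hlt : Nat.card A₁ < n := by
    rw [← hn, ← hA'card, ← hA1]
    exact lt_mul_of_one_lt_right Nat.card_pos hTp
  have hHall' : Nat.Coprime (Nat.card A₁) A₁.index := by
    refine Nat.Coprime.coprime_dvd_left (Dvd.intro _ hA1) ?_
    refine Nat.Coprime.coprime_dvd_right (index_map_dvd _ (QuotientGroup.mk'_surjective Z)) ?_
    refine Nat.Coprime.coprime_dvd_right (relIndex_dvd_index_of_le hAC : (A'.subgroupOf C).index ∣ _) ?_
    rw [hA'card]
    have e : A'.index = A.index :=
      Nat.eq_of_mul_eq_mul_left (Nat.card_pos (α := A'))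
        (by rw [card_mul_index, hA'card, card_mul_index])
    rwa [e]
  obtain ⟨g, hg⟩ := ih _ hlt (C ⧸ Z) A₁ B₁ rfl inferInstance inferInstance
    (Nat.eq_of_mul_eq_mul_right Nat.card_pos (by rw [hA1, hB1, hA'card, hc])) hHall'
  induction g using QuotientGroup.induction_on with
  | H c =>
    refine ⟨(c : G) * a, ?_⟩
    have hBZ : Z ≤ B.subgroupOf C := fun x hx => mem_subgroupOf.mpr (hT (mem_subgroupOf.mp hx))
    have hcardeq : Nat.card B ≤ Nat.card (A'.map (MulAut.conj (c : G)).toMonoidHom) := by
      rw [card_map_of_injective (MulAut.conj (c : G)).injective, hA'card, hc]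
    have hmap : A'.map (MulAut.conj (c : G)).toMonoidHom = B := by
      refine eq_of_le_of_card_ge ?_ hcardeq
      rintro _ ⟨x, hx, rfl⟩
      have h3 : f (c * ⟨x, hAC hx⟩ * c⁻¹) ∈ B₁ :=
        hg ▸ ⟨f ⟨x, hAC hx⟩, mem_map_of_mem f (mem_subgroupOf.mpr hx), by simp [f]⟩
      have h4 : c * ⟨x, hAC hx⟩ * c⁻¹ ∈ (B₁.comap f) := h3
      rw [comap_map_eq_self (by rw [QuotientGroup.ker_mk']; exact hBZ)] at h4
      simpa [mem_subgroupOf] using h4
    rw [← hmap, hA', map_map]
    congr 1
    ext x
    simp [mul_assoc]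

variable {p : ℕ} [Fact p.Prime]

/-- In a nilpotent group a Sylow subgroup and its centraliser generate. -/
theorem sylow_sup_centralizer_eq_top_of_isNilpotent [Group.IsNilpotent G] (P : Sylow p G) :
    (P : Subgroup G) ⊔ centralizer ((P : Subgroup G) : Set G) = ⊤ := by
  refine eq_top_of_forall_prime_not_dvd_index fun q hq hd => ?_
  haveI := Fact.mk hq
  by_cases e : q = p
  · subst e
    exact P.not_dvd_index (hd.trans (index_dvd_of_le le_sup_left))
  · let Q : Sylow q G := default
    have hn := (Group.isNilpotent_of_finite_tfae (G := G)).out 0 3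
    have hNorm := hn.mp inferInstance
    have hle : (Q : Subgroup G) ≤ centralizer ((P : Subgroup G) : Set G) := by
      intro y hy
      rw [mem_centralizer_iff]
      exact fun x hx => commute_of_normal_of_disjoint _ _ (hNorm p inferInstance P) (hNorm q inferInstance Q)
        (IsPGroup.disjoint_of_ne p q (Ne.symm e) _ _ P.2 Q.2) x y hx hy
    exact Q.not_dvd_index (hd.trans (index_dvd_of_le (hle.trans le_sup_right)))

/-- For an abelian Sylow subgroup, either Burnside applies or some prime-order automorphism acts. -/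
theorem abelian_sylow_burnside (P : Sylow p G) (hP : IsMulCommutative (P : Subgroup G)) :
    Cfsg.HasNormalPComplement p G ∨ ∃ q : ℕ, q.Prime ∧ q ≠ p ∧ q ∣ Nat.card G ∧
      ∃ j, p ^ j < Nat.card (P : Subgroup G) ∧ Nat.card (P : Subgroup G) ≡ p ^ j [MOD q] := by
  classical
  by_cases hN : normalizer ((P : Subgroup G) : Set G) ≤ centralizer ((P : Subgroup G) : Set G)
  · exact Or.inl (hasNormalPComplement_of_normalizer_le P hN)
  right
  let f := (P : Subgroup G).normalizerMonoidHom
  have hker : ∀ x, f x = 1 ↔ (x : G) ∈ centralizer ((P : Subgroup G) : Set G) := fun x => by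
    rw [← MonoidHom.mem_ker, normalizerMonoidHom_ker, mem_subgroupOf]
  obtain ⟨g, hg, hgc⟩ : ∃ g : normalizer ((P : Subgroup G) : Set G),
      Nat.Coprime (orderOf g) p ∧ f g ≠ 1 := by
    by_contra hcon
    push Not at hcon
    refine hN fun x hx => (hker ⟨x, hx⟩).mp (MonoidHom.mem_ker.mp ?_)
    have h1 : (⊤ : Subgroup _) ≤ f.ker := by
      rw [← sylow_sup_pResidual (P.subtype le_normalizer)]
      refine sup_le ?_ (pResidual_le_iff.mpr fun y hy => hcon y hy)
      intro y hy
      have hy' : (y : G) ∈ (P : Subgroup G) := by simpa [mem_subgroupOf] using hy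
      exact (hker y).mpr (le_centralizer (P : Subgroup G) hy')
    exact h1 (mem_top _)
  have hm : orderOf (f g) ≠ 1 := fun h => hgc (orderOf_eq_one_iff.mp h)
  obtain ⟨q, hq, hqd⟩ := Nat.exists_prime_and_dvd hm
  have hqg : q ∣ orderOf g := hqd.trans (orderOf_map_dvd f g)
  have hqp : q ≠ p := fun e => hq.ne_one (Nat.eq_one_of_dvd_coprimes hg hqg (e ▸ dvd_rfl))
  have hqG : q ∣ Nat.card G :=
    (hqg.trans (orderOf_dvd_natCard g)).trans (card_subgroup_dvd_card _)
  refine ⟨q, hq, hqp, hqG, ?_⟩
  haveI := Fact.mk hq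
  let ψ := f g ^ (orderOf (f g) / q)
  have hψ : orderOf ψ = q := orderOf_pow_orderOf_div (orderOf_pos _).ne' hqd
  have hZ : IsPGroup q (zpowers ψ) := IsPGroup.of_card (n := 1) (by rw [Nat.card_zpowers, hψ, pow_one])
  have hmod := hZ.card_modEq_card_fixedPoints (P : Subgroup G)
  let F : Subgroup (P : Subgroup G) :=
    { carrier := MulAction.fixedPoints (zpowers ψ) (P : Subgroup G)
      one_mem' := fun z => map_one (z : MulAut (P : Subgroup G))
      mul_mem' := fun {a b} ha hb z => by
        have h1 := ha z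
        have h2 := hb z
        simp only [Subgroup.smul_def, MulAut.smul_def] at h1 h2 ⊢
        rw [map_mul, h1, h2]
      inv_mem' := fun {a} ha z => by
        have h1 := ha z
        simp only [Subgroup.smul_def, MulAut.smul_def] at h1 ⊢
        rw [map_inv, h1] }
  have hF : F ≠ ⊤ := by
    intro he
    have : ψ = 1 := by
      ext x
      have hx : x ∈ F := he ▸ mem_top x
      have h2 := hx ⟨ψ, mem_zpowers ψ⟩
      simpa [Subgroup.smul_def] using congrArg Subtype.val h2
    rw [this, orderOf_one] at hψ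
    exact hq.ne_one hψ.symm
  obtain ⟨j, hj⟩ := (P.2.to_subgroup F).exists_card_eq
  refine ⟨j, hj ▸ lt_of_le_of_ne (card_le_card_group F) (fun e => hF (eq_top_of_card_eq _ e)), ?_⟩
  rw [← hj]
  exact hmod

end CfsgLib.Transfer
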