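import Mathlib
import Cfsg.Prelude.Def_Transfer

/-!
# Transfer: focal subgroups, `O^p`, Grün, Thompson transfer lemma
-/

namespace CfsgLib.Transfer

open Subgroup
open scoped commutatorElement

variable {G : Type*} [Group G] {p : ℕ}

section PResidual

theorem mem_pResidual {g : G} (h : Nat.Coprime (orderOf g) p) : g ∈ Cfsg.pResidual p G :=
  subset_closure h

theorem pResidual_le_iff {H : Subgroup G} :
    Cfsg.pResidual p G ≤ H ↔ ∀ g : G, Nat.Coprime (orderOf g) p → g ∈ H :=
  closure_le H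

theorem map_pResidual_le {H : Type*} [Group H] (f : H →* G) :
    (Cfsg.pResidual p H).map f ≤ Cfsg.pResidual p G := by
  rw [map_le_iff_le_comap, pResidual_le_iff]
  intro h hh
  exact mem_pResidual (Nat.Coprime.coprime_dvd_left (orderOf_map_dvd f h) hh)

theorem pResidual_characteristic : (Cfsg.pResidual p G).Characteristic :=
  characteristic_iff_map_le.mpr fun ϕ => map_pResidual_le ϕ.toMonoidHom

theorem pResidual_normal : (Cfsg.pResidual p G).Normal :=
  haveI := pResidual_characteristic (G := G) (p := p)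
  inferInstance

variable [Fact p.Prime]

/-- A `p'`-element is killed by every homomorphism into a `p`-group. -/
theorem map_eq_one_of_coprime {A : Type*} [Group A] (hA : IsPGroup p A) (f : G →* A) {g : G}
    (hg : Nat.Coprime (orderOf g) p) : f g = 1 := by
  obtain ⟨k, hk⟩ := hA (f g)
  have h1 : orderOf (f g) ∣ p ^ k := orderOf_dvd_of_pow_eq_one hk
  have h2 : orderOf (f g) ∣ orderOf g := orderOf_map_dvd f g
  exact orderOf_eq_one_iff.mp
    (Nat.eq_one_of_dvd_coprimes (hg.pow_right k) h2 h1)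

theorem pResidual_le_ker {A : Type*} [Group A] (hA : IsPGroup p A) (f : G →* A) :
    Cfsg.pResidual p G ≤ f.ker :=
  pResidual_le_iff.mpr fun _ hg => MonoidHom.mem_ker.mpr (map_eq_one_of_coprime hA f hg)

theorem pResidual_le_of_isPGroup_quotient (N : Subgroup G) [N.Normal]
    (h : IsPGroup p (G ⧸ N)) : Cfsg.pResidual p G ≤ N :=
  (pResidual_le_ker h (QuotientGroup.mk' N)).trans (QuotientGroup.ker_mk' N).le

variable [Finite G]

theorem exists_pow_mem_pResidual (g : G) : ∃ k : ℕ, g ^ p ^ k ∈ Cfsg.pResidual p G := by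
  refine ⟨(orderOf g).factorization p, mem_pResidual ?_⟩
  have hn : orderOf g ≠ 0 := (orderOf_pos g).ne'
  rw [orderOf_pow_of_dvd (pow_ne_zero _ (Fact.out : p.Prime).ne_zero) (Nat.ordProj_dvd _ _)]
  exact (Nat.coprime_ordCompl Fact.out hn).symm

theorem isPGroup_quotient_of_pResidual_le (N : Subgroup G) [N.Normal]
    (h : Cfsg.pResidual p G ≤ N) : IsPGroup p (G ⧸ N) := by
  intro x
  induction x using QuotientGroup.induction_on with
  | H g =>
    obtain ⟨k, hk⟩ := exists_pow_mem_pResidual (p := p) g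
    exact ⟨k, (QuotientGroup.eq_one_iff _).mpr (h hk)⟩

theorem pResidual_index_eq_pow : ∃ k, (Cfsg.pResidual p G).index = p ^ k := by
  haveI := pResidual_normal (G := G) (p := p)
  exact IsPGroup.iff_card.mp (isPGroup_quotient_of_pResidual_le _ le_rfl)

/-- A subgroup of index prime to `p` that contains `O^p(G)` is everything. -/
theorem eq_top_of_pResidual_le {H : Subgroup G} (h : Cfsg.pResidual p G ≤ H)
    (hi : ¬ p ∣ H.index) : H = ⊤ := by
  obtain ⟨k, hk⟩ := pResidual_index_eq_pow (G := G) (p := p)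
  have hd : H.index ∣ p ^ k := hk ▸ index_dvd_of_le h
  obtain ⟨j, -, hj⟩ := (Nat.dvd_prime_pow Fact.out).mp hd
  rcases j with _ | j
  · exact index_eq_one.mp (by simpa using hj)
  · exact absurd (hj ▸ dvd_pow_self p (Nat.succ_ne_zero j)) hi

theorem sup_pResidual_eq_top {H : Subgroup G} (hi : ¬ p ∣ H.index) :
    H ⊔ Cfsg.pResidual p G = ⊤ :=
  eq_top_of_pResidual_le le_sup_right fun h => hi (h.trans (index_dvd_of_le le_sup_left))

theorem sylow_sup_pResidual (P : Sylow p G) : (P : Subgroup G) ⊔ Cfsg.pResidual p G = ⊤ :=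
  sup_pResidual_eq_top P.not_dvd_index

/-- `G = P N` when `G/N` is a `p`-group. -/
theorem sylow_sup_eq_top (P : Sylow p G) (N : Subgroup G) [N.Normal]
    (h : IsPGroup p (G ⧸ N)) : (P : Subgroup G) ⊔ N = ⊤ :=
  top_le_iff.mp <| (sylow_sup_pResidual P).ge.trans
    (sup_le_sup_left (pResidual_le_of_isPGroup_quotient N h) _)

end PResidual

section Focal

variable [Finite G]

/-- `G/ker` of the focal transfer, in the case of coprime index. -/
theorem focal_coprime (H : Subgroup G) (h : Nat.Coprime H.index (⁅H, H⁆.relIndex H)) :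
    Nat.Coprime H.index (Nat.card (H ⧸ focalSubgroupOf H)) := by
  have hle : ⁅H, H⁆ ≤ focalSubgroup H := H.commutator_le_focalSubgroup
  exact h.coprime_dvd_right (relIndex_dvd_of_le_left H hle)

theorem transferFocal_bijOn (H : Subgroup G) (h : Nat.Coprime H.index (⁅H, H⁆.relIndex H)) :
    Function.Bijective (fun y : H ⧸ focalSubgroupOf H => y ^ H.index) :=
  (Nat.Coprime.pow_left_bijective (focal_coprime H h).symm)

theorem transferFocal_surjective (H : Subgroup G)
    (h : Nat.Coprime H.index (⁅H, H⁆.relIndex H)) : Function.Surjective H.transferFocal := by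
  intro x
  obtain ⟨y, rfl⟩ := (transferFocal_bijOn H h).2 x
  induction y using QuotientGroup.induction_on with
  | H z => exact ⟨z, H.transferFocal_eq_pow z⟩

theorem ker_transferFocal_inf (H : Subgroup G)
    (h : Nat.Coprime H.index (⁅H, H⁆.relIndex H)) :
    H.transferFocal.ker ⊓ H = H.focalSubgroup := by
  apply le_antisymm
  · rintro x ⟨hx, hxH⟩
    have h1 : ((⟨x, hxH⟩ : H) : H ⧸ focalSubgroupOf H) ^ H.index = 1 := by
      rw [← H.transferFocal_eq_pow ⟨x, hxH⟩]; exact hx
    have h2 : ((⟨x, hxH⟩ : H) : H ⧸ focalSubgroupOf H) = 1 :=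
      (transferFocal_bijOn H h).1 (by simpa using h1)
    simpa [focalSubgroupOf_def, mem_subgroupOf] using (QuotientGroup.eq_one_iff _).mp h2
  · open scoped IsMulCommutative in
    exact le_inf (H.focalSubgroup_le_commutator.trans
      (Abelianization.commutator_subset_ker H.transferFocal)) H.focalSubgroup_le

theorem focalSubgroup_eq_of_coprime (H : Subgroup G)
    (h : Nat.Coprime H.index (⁅H, H⁆.relIndex H)) :
    H.focalSubgroup = commutator G ⊓ H := by
  refine le_antisymm (le_inf H.focalSubgroup_le_commutator H.focalSubgroup_le) ?_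
  rw [← ker_transferFocal_inf H h]
  open scoped IsMulCommutative in
  exact inf_le_inf_right _ (Abelianization.commutator_subset_ker H.transferFocal)

theorem ker_transferFocal_sup (H : Subgroup G)
    (h : Nat.Coprime H.index (⁅H, H⁆.relIndex H)) :
    H.transferFocal.ker ⊔ H = ⊤ := by
  refine top_le_iff.mp fun g _ => ?_
  obtain ⟨y, hy⟩ := (transferFocal_bijOn H h).2 (H.transferFocal g)
  induction y using QuotientGroup.induction_on with
  | H z =>
    have hz : H.transferFocal z = H.transferFocal g := (H.transferFocal_eq_pow z).trans hy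
    have hk : g * (z : G)⁻¹ ∈ H.transferFocal.ker := by
      rw [MonoidHom.mem_ker, map_mul, map_inv, hz, mul_inv_cancel]
    simpa using mul_mem_sup hk z.2

/-- If fusion in `H` is controlled by `K`, the focal subgroup lies in `⁅H, K⁆`. -/
theorem focalSubgroup_le_of_controls {H K : Subgroup G}
    (hc : ∀ x ∈ H, ∀ g : G, g * x * g⁻¹ ∈ H → ∃ k ∈ K, k * x * k⁻¹ = g * x * g⁻¹) :
    H.focalSubgroup ≤ ⁅H, K⁆ := by
  rw [focalSubgroup_def, closure_le]
  rintro z ⟨hz, x, hx, u, rfl⟩
  have h1 : u * x⁻¹ * u⁻¹ ∈ H := by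
    have := H.mul_mem (H.inv_mem hx) hz
    simpa [commutatorElement_def, mul_assoc] using this
  obtain ⟨k, hk, e⟩ := hc x⁻¹ (H.inv_mem hx) u h1
  have : ⁅x, u⁆ = ⁅x, k⁆ := by
    simp only [commutatorElement_def]
    calc x * u * x⁻¹ * u⁻¹ = x * (u * x⁻¹ * u⁻¹) := by group
      _ = x * (k * x⁻¹ * k⁻¹) := by rw [e]
      _ = x * k * x⁻¹ * k⁻¹ := by group
  rw [SetLike.mem_coe, this]
  exact commutator_mem_commutator hx hk

variable [Fact p.Prime]

/-- If fusion in the Sylow `p`-subgroup `P` is controlled by `K ≥ P`, then `G' ∩ P = K' ∩ P`. -/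
theorem commutator_inf_eq_of_controls (P : Sylow p G) {K : Subgroup G}
    (hPK : (P : Subgroup G) ≤ K)
    (hc : ∀ x ∈ (P : Subgroup G), ∀ g : G, g * x * g⁻¹ ∈ (P : Subgroup G) →
      ∃ k ∈ K, k * x * k⁻¹ = g * x * g⁻¹) :
    commutator G ⊓ (P : Subgroup G) = ⁅K, K⁆ ⊓ (P : Subgroup G) := by
  refine le_antisymm (le_inf ?_ inf_le_right) (inf_le_inf_right _ ?_)
  · rw [commutator_inf_eq_focalSubgroup P]
    exact (focalSubgroup_le_of_controls hc).trans (commutator_mono hPK le_rfl)
  · rw [commutator_def]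
    exact commutator_mono le_top le_top

theorem pResidual_le_ker_transferFocal (P : Sylow p G) :
    Cfsg.pResidual p G ≤ (P : Subgroup G).transferFocal.ker := by
  open scoped IsMulCommutative in
  exact pResidual_le_ker (P.2.to_quotient _) _

theorem inf_pResidual_le_focal (P : Sylow p G) :
    (P : Subgroup G) ⊓ Cfsg.pResidual p G ≤ (P : Subgroup G).focalSubgroup := by
  rw [← ker_transferFocal_inf_eq_focalSubgroup P]
  exact le_inf (inf_le_right.trans (pResidual_le_ker_transferFocal P)) inf_le_left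

theorem inf_pResidual_le_commutator (P : Sylow p G) :
    (P : Subgroup G) ⊓ Cfsg.pResidual p G ≤ commutator G ⊓ (P : Subgroup G) :=
  (inf_pResidual_le_focal P).trans (commutator_inf_eq_focalSubgroup P).ge

end Focal

section Fusion

variable [Finite G] [Fact p.Prime]

/-- Sylow subgroups of a subgroup are conjugate in it: if `P` and `g⁻¹ P g` both lie in `N`,
then `g` is in `N_G(P) N` up to the displayed formulation. -/
theorem exists_mul_mem_normalizer (P : Sylow p G) (N : Subgroup G) (g : G)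
    (h1 : (P : Subgroup G) ≤ N) (h2 : ∀ x ∈ (P : Subgroup G), g⁻¹ * x * g ∈ N) :
    ∃ c ∈ N, g * c ∈ normalizer ((P : Subgroup G) : Set G) := by
  let Q : Sylow p G := g⁻¹ • P
  have hQN : (Q : Subgroup G) ≤ N := by
    rintro y ⟨x, hx, rfl⟩
    simpa using h2 x hx
  obtain ⟨c, hc⟩ := MulAction.exists_smul_eq N (P.subtype h1) (Q.subtype hQN)
  refine ⟨c, c.2, ?_⟩
  have h3 : ((c : G) • P : Sylow p G) = g⁻¹ • P :=
    Sylow.subtype_injective ((Sylow.smul_subtype h1 c).symm.trans hc)
  have h4 : ((g * c) • P : Sylow p G) = P := by rw [mul_smul, h3, smul_inv_smul]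
  exact Sylow.smul_eq_iff_mem_normalizer.mp h4

/-- Burnside: normal subsets of `P` conjugate in `G` are conjugate in `N_G(P)`. -/
theorem exists_normalizer_of_image_eq (P : Sylow p G) (X Y : Set G)
    (hX : ∀ x ∈ P, (fun y => x * y * x⁻¹) '' X = X) (hY : ∀ x ∈ P, (fun y => x * y * x⁻¹) '' Y = Y)
    (g : G) (hg : (fun y => g * y * g⁻¹) '' X = Y) :
    ∃ c : G, (fun y => c * y * c⁻¹) '' X = X ∧ g * c ∈ normalizer ((P : Subgroup G) : Set G) := by
  let N : Subgroup G := normalizer X
  have hmem : ∀ a : G, (fun y => a * y * a⁻¹) '' X = X → a ∈ N := by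
    intro a ha
    rw [mem_set_normalizer_iff]
    intro h
    constructor
    · intro hh
      exact ha ▸ ⟨h, hh, rfl⟩
    · intro hh
      obtain ⟨z, hz, e⟩ := ha.symm ▸ hh
      have : z = h := by simpa using e
      exact this ▸ hz
  have h1 : (P : Subgroup G) ≤ N := fun x hx => hmem x (hX x hx)
  have h2 : ∀ x ∈ (P : Subgroup G), g⁻¹ * x * g ∈ N := by
    intro x hx
    apply hmem
    have : (fun y => g⁻¹ * x * g * y * (g⁻¹ * x * g)⁻¹) '' X =
        (fun y => g⁻¹ * y * g) '' ((fun y => x * y * x⁻¹) '' ((fun y => g * y * g⁻¹) '' X)) := by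
      simp only [Set.image_image]
      exact Set.image_congr fun y _ => by group
    rw [this, hg, hY x hx, ← hg, Set.image_image]
    simp [mul_assoc]
  obtain ⟨c, hc, hgc⟩ := exists_mul_mem_normalizer P N g h1 h2
  refine ⟨c, ?_, hgc⟩
  ext z
  constructor
  · rintro ⟨h, hh, rfl⟩
    exact (mem_set_normalizer_iff.mp hc h).mp hh
  · intro hz
    refine ⟨c⁻¹ * z * c, (mem_set_normalizer_iff.mp hc _).mpr ?_, ?_⟩ <;>
      simp [mul_assoc, hz]

omit [Finite G] [Fact p.Prime] in
theorem IsWeaklyClosed.normal {W P : Subgroup G} (hW : Cfsg.IsWeaklyClosed W P) :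
    P ≤ normalizer (W : Set G) := by
  intro x hx
  have h1 : W.map (MulAut.conj x).toMonoidHom = W := by
    refine hW.2 x ?_
    rintro _ ⟨w, hw, rfl⟩
    simpa using P.mul_mem (P.mul_mem hx (hW.1 hw)) (P.inv_mem hx)
  rw [mem_set_normalizer_iff]
  intro h
  constructor
  · intro hh
    exact h1 ▸ ⟨h, hh, by simp⟩
  · intro hh
    obtain ⟨w, hw, e⟩ := h1.symm ▸ hh
    have : w = h := by simpa using e
    exact this ▸ hw

omit [Fact p.Prime] in
theorem mem_normalizer_of_map_conj_eq {W : Subgroup G} {g : G}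
    (h : W.map (MulAut.conj g).toMonoidHom = W) : g ∈ normalizer (W : Set G) := by
  rw [mem_set_normalizer_iff]
  intro z
  constructor
  · intro hz
    exact h ▸ ⟨z, hz, by simp⟩
  · intro hz
    obtain ⟨w, hw, e⟩ := h.symm ▸ hz
    have : w = z := by simpa using e
    exact this ▸ hw

/-- Grün: a weakly closed central subgroup has normalizer controlling fusion in `P`. -/
theorem weaklyClosed_controls (P : Sylow p G) (Z : Subgroup G)
    (hZ : Z ≤ centralizer ((P : Subgroup G) : Set G)) (hW : Cfsg.IsWeaklyClosed Z P)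
    (x : G) (hx : x ∈ (P : Subgroup G)) (g : G) (hy : g * x * g⁻¹ ∈ (P : Subgroup G)) :
    ∃ k ∈ normalizer (Z : Set G), k * x * k⁻¹ = g * x * g⁻¹ := by
  let y := g * x * g⁻¹
  let C := centralizer ({y} : Set G)
  have hC : ∀ z ∈ Z, z ∈ C ∧ g * z * g⁻¹ ∈ C := by
    intro z hz
    have h1 := hZ hz
    rw [mem_centralizer_iff] at h1
    constructor
    · exact mem_centralizer_singleton_iff.mpr (h1 y hy).symm
    · refine mem_centralizer_singleton_iff.mpr ?_
      have h2 : x * z = z * x := h1 x hx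
      calc g * z * g⁻¹ * y = g * (z * x) * g⁻¹ := by simp [y, mul_assoc]
        _ = g * (x * z) * g⁻¹ := by rw [h2]
        _ = y * (g * z * g⁻¹) := by simp [y, mul_assoc]
  have hZp : IsPGroup p Z := P.2.to_le hW.1
  let gZ := Z.map (MulAut.conj g).toMonoidHom
  obtain ⟨S, hS⟩ := (hZp.comap_subtype (K := C)).exists_le_sylow
  obtain ⟨T, hT⟩ := ((hZp.map (MulAut.conj g).toMonoidHom).comap_subtype (K := C)).exists_le_sylow
  obtain ⟨c, hc⟩ := MulAction.exists_smul_eq C T S
  have hSp : IsPGroup p ((S : Subgroup C).map C.subtype) := S.2.map _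
  obtain ⟨R, hR⟩ := hSp.exists_le_sylow
  obtain ⟨h, rfl⟩ := MulAction.exists_smul_eq G P R
  have key : ∀ w ∈ (S : Subgroup C), h⁻¹ * (w : G) * h ∈ (P : Subgroup G) := by
    intro w hw
    obtain ⟨u, hu, e⟩ := hR (mem_map_of_mem _ hw)
    have e' : (w : G) = h * u * h⁻¹ := e.symm
    simpa [e', mul_assoc] using (show u ∈ (P : Subgroup G) from hu)
  have hk : ∀ k : G, (∀ z ∈ Z, ∃ w ∈ (S : Subgroup C), (w : G) = k * z * k⁻¹) →
      h⁻¹ * k ∈ normalizer (Z : Set G) := by
    intro k hk
    refine mem_normalizer_of_map_conj_eq (hW.2 _ ?_)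
    rintro _ ⟨z, hz, rfl⟩
    obtain ⟨w, hw, e⟩ := hk z hz
    have := key w hw
    simpa [e, mul_assoc] using this
  have k1 : h⁻¹ * 1 ∈ normalizer (Z : Set G) :=
    hk 1 fun z hz => ⟨⟨z, (hC z hz).1⟩, hS (by simpa [mem_subgroupOf] using hz), by simp⟩
  have k2 : h⁻¹ * (c * g) ∈ normalizer (Z : Set G) := by
    refine hk _ fun z hz => ?_
    have hT' : (⟨g * z * g⁻¹, (hC z hz).2⟩ : C) ∈ (T : Subgroup C) :=
      hT (by simpa [mem_subgroupOf] using (⟨z, hz, rfl⟩ : g * z * g⁻¹ ∈
        Z.map (MulAut.conj g).toMonoidHom))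
    refine ⟨c * ⟨_, (hC z hz).2⟩ * c⁻¹, ?_, by simp [mul_assoc]⟩
    rw [← hc]
    exact ⟨_, hT', rfl⟩
  refine ⟨c * g, ?_, ?_⟩
  · have := mul_mem (inv_mem k1) k2
    simpa [mul_assoc] using this
  · have h3 : (c : G) * y = y * c := mem_centralizer_singleton_iff.mp c.2
    calc (c : G) * g * x * ((c : G) * g)⁻¹ = (c : G) * y * (c : G)⁻¹ := by simp [y, mul_assoc]
      _ = y := by rw [h3, mul_inv_cancel_right]

end Fusion

section Thompson

variable [Finite G]

/-- Thompson transfer: transfer of an involution `u` through a subgroup of odd index on which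
all conjugates of `u` take the same value `a`. -/
theorem transfer_involution {H : Subgroup G} {A : Type*} [CommGroup A] (φ : H →* A) {u : G}
    (hu : u ^ 2 = 1) {a : A} (ha : a ^ 2 = 1) (hodd : Odd H.index)
    (hφ : ∀ g : G, ∀ h : g⁻¹ * u * g ∈ H, φ ⟨_, h⟩ = a) : φ.transfer u = a := by
  classical
  have : Fintype (Quotient (MulAction.orbitRel (zpowers u) (G ⧸ H))) := Fintype.ofFinite _
  have hterm : ∀ (g : G) (m : ℕ) (h : g⁻¹ * u ^ m * g ∈ H), φ ⟨_, h⟩ = a ^ m := by
    intro g m h
    obtain ⟨j, rfl | rfl⟩ : ∃ j, m = 2 * j ∨ m = 2 * j + 1 := ⟨m / 2, by omega⟩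
    · rw [pow_mul a, ha, one_pow]
      have e : (⟨_, h⟩ : H) = 1 := Subtype.ext (by simp [pow_mul, hu])
      rw [e, map_one]
    · have e : u ^ (2 * j + 1) = u := by simp [pow_succ, pow_mul, hu]
      have h' : g⁻¹ * u * g ∈ H := by rwa [e] at h
      have e2 : (⟨_, h⟩ : H) = ⟨_, h'⟩ := Subtype.ext (by simp [e])
      rw [e2, hφ g h', pow_succ, pow_mul, ha, one_pow, one_mul]
  rw [MonoidHom.transfer_eq_prod_quotient_orbitRel_zpowers_quot,
    Finset.prod_congr rfl (fun q _ => hterm _ _ _), Finset.prod_pow_eq_pow_sum,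
    ← index_eq_sum_minimalPeriod H u]
  obtain ⟨j, hj⟩ := hodd
  rw [hj, pow_succ, pow_mul, ha, one_pow, one_mul]

/-- Thompson transfer lemma. -/
theorem thompson_transfer (P : Sylow 2 G) (Q : Subgroup G)
    (hQi : Q.relIndex (P : Subgroup G) = 2) (u : G) (hu : u ^ 2 = 1)
    (hcl : ∀ g : G, g * u * g⁻¹ ∈ (P : Subgroup G) → g * u * g⁻¹ ∉ Q) :
    ∃ M : Subgroup G, M.Normal ∧ M.index = 2 ∧ u ∉ M := by
  classical
  let Q' := Q.subgroupOf (P : Subgroup G)
  have hi : Q'.index = 2 := hQi
  let φ : (P : Subgroup G) →* ℤˣ :=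
    { toFun := fun x => if x ∈ Q' then 1 else -1
      map_one' := if_pos Q'.one_mem
      map_mul' := fun x y => by
        have := mul_mem_iff_of_index_two hi (a := x) (b := y)
        by_cases hx : x ∈ Q' <;> by_cases hy : y ∈ Q' <;> simp [hx, hy, this] }
  have hP : Odd (P : Subgroup G).index := by
    rw [← Nat.not_even_iff_odd, even_iff_two_dvd]; exact P.not_dvd_index
  have hv : φ.transfer u = -1 := by
    refine transfer_involution φ hu (by simp) hP fun g h => ?_
    have := hcl g⁻¹ (by simpa using h)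
    exact if_neg (by simpa [Q', mem_subgroupOf] using this)
  refine ⟨φ.transfer.ker, inferInstance, ?_, by simp [MonoidHom.mem_ker, hv]⟩
  have hd : φ.transfer.ker.index ∣ 2 := by
    rw [index_ker]
    exact (card_subgroup_dvd_card _).trans (by simp [Nat.card_eq_fintype_card])
  refine (Nat.prime_two.eq_one_or_self_of_dvd _ hd).resolve_left fun h1 => ?_
  have : u ∈ φ.transfer.ker := index_eq_one.mp h1 ▸ mem_top u
  simp [MonoidHom.mem_ker, hv] at this

end Thompson

end CfsgLib.Transfer
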