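import Cfsg.Agent.Lib.Transfer.NormalComplement

/-!
# Tate's theorem
-/

namespace CfsgLib.Transfer

open Subgroup
open scoped commutatorElement

variable {G : Type*} [Group G] [Finite G] {p : ℕ} [Fact p.Prime]

/-- Averaging by transfer: if `M ≤ L := O^p(G) ∩ H` with `L/M` central in the `p`-group `H/M` and
without a proper supplement, then `L = M`. -/
theorem tate_core (H : Subgroup G) (hH : ¬ p ∣ H.index) (M : Subgroup H) [M.Normal]
    (hMp : IsPGroup p (H ⧸ M)) (hML : M ≤ (Cfsg.pResidual p G).subgroupOf H)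
    (hc : ((Cfsg.pResidual p G).subgroupOf H).map (QuotientGroup.mk' M) ≤ center (H ⧸ M))
    (hgen : ∀ S : Subgroup (H ⧸ M),
      S ⊔ ((Cfsg.pResidual p G).subgroupOf H).map (QuotientGroup.mk' M) = ⊤ → S = ⊤) :
    (Cfsg.pResidual p G).subgroupOf H ≤ M := by
  classical
  haveI := pResidual_normal (G := G) (p := p)
  obtain ⟨K, hK⟩ : ∃ K : Subgroup G, K = Cfsg.pResidual p G := ⟨_, rfl⟩
  haveI : K.Normal := hK ▸ inferInstance
  obtain ⟨A, hA⟩ : ∃ A : Subgroup (H ⧸ M),
      A = ((Cfsg.pResidual p G).subgroupOf H).map (QuotientGroup.mk' M) := ⟨_, rfl⟩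
  rw [← hA] at hc hgen
  rw [← hK] at hML hA ⊢
  have hAc : ∀ a ∈ A, ∀ b : H ⧸ M, b * a = a * b := fun a ha b => mem_center_iff.mp (hc ha) b
  letI instA : CommGroup A :=
    { (inferInstance : Group A) with mul_comm := fun a b => Subtype.ext (hAc _ b.2 a) }
  let π : H ⧸ M →* G ⧸ K := QuotientGroup.lift M ((QuotientGroup.mk' K).comp H.subtype)
    (fun x hx => (QuotientGroup.eq_one_iff _).mpr (hML hx))
  have hπ : ∀ h : H, π (QuotientGroup.mk' M h) = QuotientGroup.mk' K (h : G) := fun h => rfl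
  have hπker : ∀ x, π x = 1 → x ∈ A := by
    intro x hx
    induction x using QuotientGroup.induction_on with
    | H h =>
      rw [hA]
      exact ⟨h, mem_subgroupOf.mpr ((QuotientGroup.eq_one_iff _).mp hx), rfl⟩
  have hπA : ∀ a ∈ A, π a = 1 := by
    intro a ha
    rw [hA] at ha
    obtain ⟨h, hh, rfl⟩ := ha
    exact (QuotientGroup.eq_one_iff _).mpr hh
  have hπsurj : Function.Surjective π := by
    intro y
    induction y using QuotientGroup.induction_on with
    | H g =>
      have h1 : g ∈ H ⊔ K := by rw [hK, sup_pResidual_eq_top hH]; trivial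
      rw [← SetLike.mem_coe, mul_normal] at h1
      obtain ⟨h, hh, k, hk, e⟩ := h1
      refine ⟨QuotientGroup.mk' M ⟨h, hh⟩, ?_⟩
      rw [hπ]
      refine QuotientGroup.eq.mpr ?_
      rw [← e]
      simpa using hk
  let E : Subgroup (G × (H ⧸ M)) :=
    MonoidHom.eqLocus ((QuotientGroup.mk' K).comp (MonoidHom.fst G (H ⧸ M)))
      (π.comp (MonoidHom.snd G (H ⧸ M)))
  have hE : ∀ x : G × (H ⧸ M), x ∈ E ↔ QuotientGroup.mk' K x.1 = π x.2 := fun x => Iff.rfl
  let f1 : E →* G := (MonoidHom.fst G (H ⧸ M)).comp E.subtype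
  have hf1 : Function.Surjective f1 := fun g => by
    obtain ⟨y, hy⟩ := hπsurj (QuotientGroup.mk' K g)
    exact ⟨⟨(g, y), (hE _).mpr hy.symm⟩, rfl⟩
  let T : Subgroup E := H.comap f1
  have hTi : T.index = H.index := index_comap_of_surjective _ hf1
  have hval : ∀ t : T, (t : E).1.2 * (QuotientGroup.mk' M ⟨(t : E).1.1, t.2⟩)⁻¹ ∈ A := by
    intro t
    apply hπker
    rw [map_mul, map_inv, hπ]
    have := (hE _).mp (t : E).2
    simp only [← this, mul_inv_cancel]
  let proj : T →* H :=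
    { toFun := fun t => ⟨(t : E).1.1, t.2⟩, map_one' := rfl, map_mul' := fun _ _ => rfl }
  let bM : T →* H ⧸ M := (QuotientGroup.mk' M).comp proj
  let snd : T →* H ⧸ M := ((MonoidHom.snd G (H ⧸ M)).comp E.subtype).comp T.subtype
  let φ : T →* A :=
    { toFun := fun t => ⟨snd t * (bM t)⁻¹, hval t⟩
      map_one' := Subtype.ext (by simp only [map_one, inv_one, mul_one]; rfl)
      map_mul' := fun s t => Subtype.ext (by
        have h1 := hAc _ (hval t) (bM s)⁻¹
        change snd (s * t) * (bM (s * t))⁻¹ = (snd s * (bM s)⁻¹) * (snd t * (bM t)⁻¹)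
        rw [map_mul, map_mul, mul_inv_rev]
        calc snd s * snd t * ((bM t)⁻¹ * (bM s)⁻¹)
            = snd s * ((snd t * (bM t)⁻¹) * (bM s)⁻¹) := by simp [mul_assoc]
          _ = snd s * ((bM s)⁻¹ * (snd t * (bM t)⁻¹)) := congrArg (snd s * ·) h1.symm
          _ = _ := by simp [mul_assoc]) }
  haveI : T.FiniteIndex := ⟨by rw [hTi]; exact FiniteIndex.index_ne_zero⟩
  let τ : E →* A := φ.transfer
  have hA1 : IsPGroup p A := hMp.to_subgroup A
  have hcop : (Nat.card A).Coprime H.index := by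
    obtain ⟨k, hk⟩ := hA1.exists_card_eq
    rw [hk]
    exact Nat.Coprime.pow_left _ ((Nat.Prime.coprime_iff_not_dvd Fact.out).mpr hH)
  -- the copy of `A` inside `E`
  have hιmem : ∀ a : A, ((1, (a : H ⧸ M)) : G × (H ⧸ M)) ∈ E := fun a => by
    rw [hE, hπA _ a.2, map_one]
  have hτι : ∀ a : A, τ ⟨_, hιmem a⟩ = a ^ H.index := by
    intro a
    have hcen : ∀ e : E, e * ⟨_, hιmem a⟩ = ⟨_, hιmem a⟩ * e := fun e =>
      Subtype.ext (Prod.ext (by simp) (hAc _ a.2 _))
    change φ.transfer _ = _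
    rw [MonoidHom.transfer_eq_pow φ _ (fun k g₀ _ => by
      rw [mul_assoc, ((show Commute g₀ _ from hcen g₀).pow_right k).symm.eq, inv_mul_cancel_left])]
    apply Subtype.ext
    change (a : H ⧸ M) ^ T.index * (QuotientGroup.mk' M ⟨(1 : G) ^ T.index, _⟩)⁻¹ = _
    have e : ∀ x : H, (x : G) = 1 → (QuotientGroup.mk' M x)⁻¹ = 1 := fun x hx => by
      rw [show x = 1 from Subtype.ext hx, map_one, inv_one]
    rw [e _ (one_pow _), mul_one, hTi, SubmonoidClass.coe_pow]
  let σ : A ≃ A := powCoprime hcop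
  let τ' : E →* A :=
    { toFun := fun e => σ.symm (τ e)
      map_one' := σ.injective (by simp [σ])
      map_mul' := fun x y => σ.injective (by
        simp [σ, mul_pow, mul_zpow, map_mul]) }
  have hτ'ι : ∀ a : A, τ' ⟨_, hιmem a⟩ = a := fun a => by
    change σ.symm (τ ⟨_, hιmem a⟩) = a
    rw [hτι]
    exact σ.symm_apply_apply a
  let θ : E →* H ⧸ M :=
    { toFun := fun e => e.1.2 * (τ' e : H ⧸ M)⁻¹
      map_one' := by simp
      map_mul' := fun x y => by
        simp only [map_mul, coe_mul, Prod.snd_mul, mul_inv_rev]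
        have h1 := hAc _ (inv_mem (τ' x).2) (y.1.2 * (τ' y : H ⧸ M)⁻¹)
        calc x.1.2 * y.1.2 * ((τ' y : H ⧸ M)⁻¹ * (τ' x : H ⧸ M)⁻¹)
            = x.1.2 * ((y.1.2 * (τ' y : H ⧸ M)⁻¹) * (τ' x : H ⧸ M)⁻¹) := by simp [mul_assoc]
          _ = x.1.2 * ((τ' x : H ⧸ M)⁻¹ * (y.1.2 * (τ' y : H ⧸ M)⁻¹)) := by rw [h1]
          _ = _ := by simp [mul_assoc] }
  have hθ : f1.ker ≤ θ.ker := by
    intro e he
    have h1 : e.1.1 = 1 := he
    have h2 : e.1.2 ∈ A := hπker _ (by rw [← (hE _).mp e.2, h1, map_one])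
    have h3 : e = ⟨_, hιmem ⟨_, h2⟩⟩ := Subtype.ext (Prod.ext h1 rfl)
    rw [MonoidHom.mem_ker]
    change e.1.2 * (τ' e : H ⧸ M)⁻¹ = 1
    rw [h3, hτ'ι]
    simp
  let ψ : G →* H ⧸ M := f1.liftOfSurjective hf1 ⟨θ, hθ⟩
  have hψ : ∀ e : E, ψ (f1 e) = θ e := fun e => MonoidHom.liftOfRightInverse_comp_apply _ _ _ _ e
  have hπψ : ∀ g, π (ψ g) = QuotientGroup.mk' K g := by
    intro g
    obtain ⟨e, rfl⟩ := hf1 g
    rw [hψ]
    change π (e.1.2 * (τ' e : H ⧸ M)⁻¹) = _
    rw [map_mul, map_inv, hπA _ (τ' e).2, inv_one, mul_one, ← (hE _).mp e.2]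
    rfl
  have htop : ψ.range = ⊤ := by
    refine hgen _ (top_le_iff.mp fun y _ => ?_)
    induction y using QuotientGroup.induction_on with
    | H h =>
      have h1 : (ψ h)⁻¹ * QuotientGroup.mk' M h ∈ A := hπker _ (by
        rw [map_mul, map_inv, hπψ, hπ, inv_mul_cancel])
      have := mul_mem_sup (S := ψ.range) ⟨(h : G), rfl⟩ h1
      rwa [mul_inv_cancel_left] at this
  have hψK : K ≤ ψ.ker := hK ▸ pResidual_le_ker hMp ψ
  intro x hx
  obtain ⟨g, hg⟩ : QuotientGroup.mk' M x ∈ ψ.range := htop ▸ mem_top _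
  have h1 : g ∈ K := by
    rw [← QuotientGroup.eq_one_iff]
    have := hπψ g
    rw [hg, hπ] at this
    exact this.symm.trans ((QuotientGroup.eq_one_iff _).mpr hx)
  rw [← QuotientGroup.eq_one_iff]
  exact hg.symm.trans (hψK h1)

/-- Iterated form: `L/U` is trivial if it has no proper supplement in any central quotient. -/
theorem tate_iterate (H : Subgroup G) (hH : ¬ p ∣ H.index) (U : Subgroup H) [U.Normal]
    (hUp : IsPGroup p (H ⧸ U)) (hUL : U ≤ (Cfsg.pResidual p G).subgroupOf H)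
    (hgen : ∀ (M : Subgroup H) [M.Normal], U ≤ M → M ≤ (Cfsg.pResidual p G).subgroupOf H →
      ((Cfsg.pResidual p G).subgroupOf H).map (QuotientGroup.mk' M) ≤ center (H ⧸ M) →
      ∀ S : Subgroup (H ⧸ M),
        S ⊔ ((Cfsg.pResidual p G).subgroupOf H).map (QuotientGroup.mk' M) = ⊤ → S = ⊤) :
    (Cfsg.pResidual p G).subgroupOf H ≤ U := by
  haveI := pResidual_normal (G := G) (p := p)
  obtain ⟨L, hL⟩ : ∃ L : Subgroup H, L = (Cfsg.pResidual p G).subgroupOf H := ⟨_, rfl⟩
  rw [← hL]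
  haveI : L.Normal := hL ▸ inferInstance
  let M : Subgroup H := U ⊔ ⁅L, (⊤ : Subgroup H)⁆
  haveI : M.Normal := Subgroup.sup_normal _ _
  have hML : M ≤ L := sup_le (hL ▸ hUL) (commutator_le_left _ _)
  have hMp : IsPGroup p (H ⧸ M) :=
    hUp.of_surjective (QuotientGroup.map U M (MonoidHom.id H) (le_sup_left))
      (fun x => by
        induction x using QuotientGroup.induction_on with
        | H h => exact ⟨(h : H ⧸ U), rfl⟩)
  have hcen : L.map (QuotientGroup.mk' M) ≤ center (H ⧸ M) := by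
    rintro _ ⟨l, hl, rfl⟩
    rw [mem_center_iff]
    intro x
    induction x using QuotientGroup.induction_on with
    | H h =>
      refine QuotientGroup.eq.mpr (mem_sup_right ?_)
      have := commutator_mem_commutator (inv_mem hl) (mem_top h⁻¹)
      simpa [commutatorElement_def, mul_assoc] using this
  have hLM : L ≤ M := by
    rw [hL]
    exact tate_core H hH M hMp (hL ▸ hML) (hL ▸ hcen)
      (hgen M le_sup_left (hL ▸ hML) (hL ▸ hcen))
  haveI : Group.IsNilpotent (H ⧸ U) := hUp.isNilpotent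
  have hstep : ∀ n, L.map (QuotientGroup.mk' U) ≤ (⊤ : Subgroup (H ⧸ U)).lowerCentralSeries n := by
    intro n
    induction n with
    | zero => rw [Subgroup.lowerCentralSeries_zero]; exact le_top
    | succ n ihn =>
      rintro _ ⟨l, hl, rfl⟩
      obtain ⟨u, hu, c, hc, rfl⟩ : ∃ u ∈ U, ∃ c ∈ ⁅L, (⊤ : Subgroup H)⁆, u * c = l := by
        have := hLM hl
        rw [← SetLike.mem_coe, normal_mul] at this
        obtain ⟨u, hu, c, hc, e⟩ := this
        exact ⟨u, hu, c, hc, e⟩
      rw [map_mul, show QuotientGroup.mk' U u = 1 from (QuotientGroup.eq_one_iff _).mpr hu, one_mul]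
      have h1 : QuotientGroup.mk' U c ∈ (⁅L, (⊤ : Subgroup H)⁆).map (QuotientGroup.mk' U) :=
        mem_map_of_mem _ hc
      rw [map_commutator] at h1
      rw [Subgroup.lowerCentralSeries_succ]
      exact commutator_mono ihn le_top h1
  obtain ⟨n, hn⟩ := (Subgroup.nilpotent_iff_lowerCentralSeries).mp (inferInstance : Group.IsNilpotent (H ⧸ U))
  intro l hl
  have := hstep n (mem_map_of_mem _ hl)
  rw [hn, mem_bot] at this
  exact (QuotientGroup.eq_one_iff _).mp this

/-- Tate: `P ∩ O^p(G) ≤ Φ(P)` forces a normal `p`-complement. -/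
theorem hasNormalPComplement_of_inf_le_frattini (P : Sylow p G)
    (h : (P : Subgroup G) ⊓ Cfsg.pResidual p G ≤ (frattini P).map (P : Subgroup G).subtype) :
    Cfsg.HasNormalPComplement p G := by
  have hL : (Cfsg.pResidual p G).subgroupOf (P : Subgroup G) ≤ frattini (P : Subgroup G) := by
    intro x hx
    obtain ⟨y, hy, e⟩ := h ⟨x.2, mem_subgroupOf.mp hx⟩
    exact (Subtype.ext e : y = x) ▸ hy
  rw [hasNormalPComplement_iff_inf_eq_bot P]
  have h0 := tate_iterate (P : Subgroup G) P.not_dvd_index ⊥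
    (P.2.of_surjective (QuotientGroup.mk' _) (QuotientGroup.mk'_surjective _)) bot_le
    (fun M hM _ hML _ S hS => by
      have hS2 : S.comap (QuotientGroup.mk' M) ⊔ frattini (P : Subgroup G) = ⊤ := by
        refine top_le_iff.mp fun x _ => ?_
        have : QuotientGroup.mk' M x ∈ S ⊔ _ := hS ▸ mem_top _
        have h2 : x ∈ comap (QuotientGroup.mk' M) _ := mem_comap.mpr this
        rw [← map_comap_eq_self_of_surjective (QuotientGroup.mk'_surjective M) S, ← Subgroup.map_sup,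
          comap_map_eq, QuotientGroup.ker_mk'] at h2
        refine (sup_le (sup_le_sup_left hL _) ?_ : _ ≤ _) h2
        exact (hML.trans hL).trans le_sup_right
      have := frattini_nongenerating hS2
      exact comap_injective (QuotientGroup.mk'_surjective M) (by rw [this, comap_top]))
  rw [eq_bot_iff]
  intro x hx
  have : (⟨x, hx.1⟩ : (P : Subgroup G)) = 1 := mem_bot.mp (h0 (mem_subgroupOf.mpr hx.2))
  exact mem_bot.mpr (congrArg Subtype.val this)

/-- Tate: if `P ≤ H` and `P ∩ G' ≤ H'` then `O^p(G) ∩ H = O^p(H)`. -/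
theorem pResidual_subgroupOf_eq (P : Sylow p G) (H : Subgroup G) (hPH : (P : Subgroup G) ≤ H)
    (h : commutator G ⊓ (P : Subgroup G) ≤ ⁅H, H⁆) :
    (Cfsg.pResidual p G).subgroupOf H = Cfsg.pResidual p H := by
  haveI := pResidual_normal (G := H) (p := p)
  haveI := pResidual_normal (G := G) (p := p)
  have hH : ¬ p ∣ H.index := fun hd => P.not_dvd_index (hd.trans (index_dvd_of_le hPH))
  have hUL : Cfsg.pResidual p H ≤ (Cfsg.pResidual p G).subgroupOf H := by
    rw [subgroupOf, ← map_le_iff_le_comap]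
    exact map_pResidual_le H.subtype
  refine le_antisymm ?_ hUL
  refine tate_iterate H hH _ (isPGroup_quotient_of_pResidual_le _ le_rfl) hUL ?_
  intro M hM hUM hML hcen S hS
  have hPS : (P.subtype hPH : Subgroup H) ⊔ Cfsg.pResidual p H = ⊤ := sylow_sup_pResidual _
  have hL : ((Cfsg.pResidual p G).subgroupOf H).map (QuotientGroup.mk' M) ≤
      commutator (H ⧸ M) := by
    rintro _ ⟨l, hl, rfl⟩
    have h1 : l ∈ (P.subtype hPH : Subgroup H) ⊔ Cfsg.pResidual p H := hPS ▸ mem_top l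
    rw [← SetLike.mem_coe, mul_normal] at h1
    obtain ⟨a, ha, u, hu, rfl⟩ := h1
    rw [map_mul, show QuotientGroup.mk' M u = 1 from (QuotientGroup.eq_one_iff _).mpr (hUM hu),
      mul_one]
    have haK : (a : G) ∈ Cfsg.pResidual p G := by
      have := mul_mem hl (inv_mem (hUL hu))
      simpa [mem_subgroupOf] using this
    have haP : (a : G) ∈ (P : Subgroup G) := by simpa [mem_subgroupOf] using ha
    have h2 : (a : G) ∈ ⁅H, H⁆ := h (inf_pResidual_le_commutator P ⟨haP, haK⟩)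
    rw [← map_subtype_commutator] at h2
    obtain ⟨b, hb, e⟩ := h2
    have h3 := mem_map_of_mem (QuotientGroup.mk' M) ((Subtype.ext e : b = a) ▸ hb)
    rw [commutator_def, map_commutator] at h3
    exact commutator_mono le_top le_top h3
  have hcomm : commutator (H ⧸ M) ≤ S := by
    rw [commutator_def, commutator_le]
    intro x _ y _
    have hx : x ∈ S ⊔ center (H ⧸ M) := sup_le_sup_left hcen S (hS ▸ mem_top x)
    have hy : y ∈ S ⊔ center (H ⧸ M) := sup_le_sup_left hcen S (hS ▸ mem_top y)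
    rw [← SetLike.mem_coe, mul_normal] at hx hy
    obtain ⟨s, hs, z, hz, rfl⟩ := hx
    obtain ⟨t, ht, w, hw, rfl⟩ := hy
    rw [SetLike.mem_coe, mem_center_iff] at hz hw
    have : ⁅s * z, t * w⁆ = ⁅s, t⁆ := by
      simp only [commutatorElement_def, mul_inv_rev]
      calc s * z * (t * w) * (z⁻¹ * s⁻¹) * (w⁻¹ * t⁻¹)
          = s * ((z * (t * w)) * z⁻¹) * s⁻¹ * (w⁻¹ * t⁻¹) := by group
        _ = s * t * (w * s⁻¹) * w⁻¹ * t⁻¹ := by rw [← hz (t * w)]; group
        _ = s * t * s⁻¹ * t⁻¹ := by rw [← hw s⁻¹]; group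
    rw [this]
    exact mul_mem (mul_mem (mul_mem hs ht) (inv_mem hs)) (inv_mem ht)
  rw [eq_top_iff, ← hS]
  exact sup_le le_rfl (hL.trans hcomm)

/-- `P ≤ H`, `P ∩ G' = P ∩ H'` implies `P ∩ O^p(G) = P ∩ O^p(H)`. -/
theorem inf_pResidual_eq (P : Sylow p G) (H : Subgroup G) (hPH : (P : Subgroup G) ≤ H)
    (h : commutator G ⊓ (P : Subgroup G) ≤ ⁅H, H⁆) :
    (P : Subgroup G) ⊓ Cfsg.pResidual p G =
      (P : Subgroup G) ⊓ (Cfsg.pResidual p H).map H.subtype := by
  rw [← pResidual_subgroupOf_eq P H hPH h, subgroupOf_map_subtype, ← inf_assoc, inf_right_comm,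
    inf_eq_left.mpr hPH]

/-- If `N` is normal and `N ∩ P ≤ Φ(P)`, then `N` has a normal `p`-complement. -/
theorem hasNormalPComplement_normal (P : Sylow p G) (N : Subgroup G) [N.Normal]
    (h : N ⊓ (P : Subgroup G) ≤ (frattini P).map (P : Subgroup G).subtype) :
    Cfsg.HasNormalPComplement p N := by
  obtain ⟨X, hX⟩ : ∃ X : Subgroup G, X = (P : Subgroup G) ⊔ N := ⟨_, rfl⟩
  have hPX : (P : Subgroup G) ≤ X := hX ▸ le_sup_left
  have hNX : N ≤ X := hX ▸ le_sup_right
  let PX : Sylow p X := P.subtype hPX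
  have hres : Cfsg.pResidual p X ≤ N.subgroupOf X := by
    refine pResidual_le_of_isPGroup_quotient _ fun y => ?_
    induction y using QuotientGroup.induction_on with
    | H z =>
      have h1 : (z : G) ∈ (P : Subgroup G) ⊔ N := hX ▸ z.2
      rw [← SetLike.mem_coe, mul_normal] at h1
      obtain ⟨a, ha, n, hn, e⟩ := h1
      obtain ⟨k, hk⟩ := P.2 ⟨a, ha⟩
      refine ⟨k, ?_⟩
      have hz : (z : X ⧸ N.subgroupOf X) = ((⟨a, hPX ha⟩ : X) : X ⧸ N.subgroupOf X) := by
        refine (QuotientGroup.eq.mpr ?_).symm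
        rw [mem_subgroupOf]
        simpa [← e] using hn
      rw [hz, ← QuotientGroup.mk_pow, QuotientGroup.eq_one_iff, mem_subgroupOf]
      have h5 : a ^ p ^ k = 1 := by simpa using congrArg Subtype.val hk
      simp [h5]
  have hXc : Cfsg.HasNormalPComplement p X := by
    refine hasNormalPComplement_of_inf_le_frattini PX fun x hx => ?_
    obtain ⟨y, hy, e⟩ := h ⟨mem_subgroupOf.mp (hres hx.2), (show (x : G) ∈ (P : Subgroup G) from mem_subgroupOf.mp hx.1)⟩
    let eqv : (P : Subgroup G) ≃* (PX : Subgroup X) := (subgroupOfEquivOfLe hPX).symm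
    refine ⟨eqv y, ?_, Subtype.ext e⟩
    have hsurj : Function.Surjective eqv.toMonoidHom := eqv.surjective
    exact frattini_le_comap_frattini_of_surjective hsurj hy
  exact hasNormalPComplement_of_injective (inclusion hNX) (inclusion_injective hNX) hXc

end CfsgLib.Transfer
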