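import Cfsg.Agent.Lib.Transfer.Basic

/-!
# Central elements and transfer; abelian normal Hall subgroups
-/

namespace CfsgLib.Transfer

open Subgroup
open scoped commutatorElement

variable {G : Type*} [Group G] [Finite G]

/-- A central element of `G' ∩ H` has `[G:H]`-th power killed by every linear character of `H`. -/
theorem apply_pow_index_eq_one {H : Subgroup G} {A : Type*} [CommGroup A] (φ : H →* A) {z : G}
    (hz : z ∈ center G) (hzH : z ∈ H) (hd : z ∈ commutator G) : φ ⟨z, hzH⟩ ^ H.index = 1 := by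
  have key : ∀ (k : ℕ) (g₀ : G), g₀⁻¹ * z ^ k * g₀ ∈ H → g₀⁻¹ * z ^ k * g₀ = z ^ k := fun k g₀ _ => by
    rw [mul_assoc, ← mem_center_iff.mp (pow_mem hz k) g₀, inv_mul_cancel_left]
  have h1 : φ.transfer z = φ ⟨z, hzH⟩ ^ H.index := by
    rw [MonoidHom.transfer_eq_pow φ z key, ← map_pow]
    rfl
  rw [← h1]
  exact Abelianization.commutator_subset_ker φ.transfer hd

theorem eq_one_of_central_commutator (H : Subgroup G) (hc : IsMulCommutative H)
    (hHall : Nat.Coprime (Nat.card H) H.index) {z : G} (hzH : z ∈ H) (hd : z ∈ commutator G)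
    (hz : z ∈ center G) : z = 1 := by
  letI : CommGroup H := { (inferInstance : Group H) with mul_comm := hc.is_comm.comm }
  have h1 := apply_pow_index_eq_one (MonoidHom.id H) hz hzH hd
  rw [MonoidHom.id_apply, ← orderOf_dvd_iff_pow_eq_one] at h1
  exact congrArg Subtype.val
    (orderOf_eq_one_iff.mp (Nat.eq_one_of_dvd_coprimes hHall (orderOf_dvd_natCard _) h1))

/-- An abelian normal Hall subgroup `A` is `[A,G] × (A ∩ Z(G))`, with `[A,G] = G' ∩ A`. -/
theorem abelian_normal_hall (A : Subgroup G) [A.Normal] (hc : IsMulCommutative A)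
    (hHall : Nat.Coprime (Nat.card A) A.index) :
    ⁅A, (⊤ : Subgroup G)⁆ = commutator G ⊓ A ∧
      (commutator G ⊓ A) ⊓ (center G ⊓ A) = ⊥ ∧ (commutator G ⊓ A) ⊔ (center G ⊓ A) = A := by
  have h1 : ⁅A, (⊤ : Subgroup G)⁆ = commutator G ⊓ A := by
    refine le_antisymm (le_inf (commutator_mono le_top le_rfl) (commutator_le_left _ _)) ?_
    rw [← focalSubgroup_eq_of_coprime A
      (hHall.symm.coprime_dvd_right (relIndex_dvd_card _ _))]
    exact focalSubgroup_le_of_controls fun x _ g _ => ⟨g, mem_top g, rfl⟩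
  refine ⟨h1, (eq_bot_iff_forall _).mpr fun z hz => ?_, le_antisymm (sup_le inf_le_right inf_le_right) ?_⟩
  · exact eq_one_of_central_commutator A hc hHall hz.1.2 hz.1.1 hz.2.1
  intro a ha
  haveI := Fintype.ofFinite (G ⧸ A)
  letI : CommGroup A := { (inferInstance : Group A) with mul_comm := hc.is_comm.comm }
  obtain ⟨D, hD⟩ : ∃ D : Subgroup G, D = (commutator G ⊓ A) ⊔ (center G ⊓ A) := ⟨_, rfl⟩
  rw [← hD]
  let cj : G → A →* A := fun g =>
    { toFun := fun x => ⟨g * x * g⁻¹, Normal.conj_mem inferInstance _ x.2 g⟩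
      map_one' := Subtype.ext (by simp)
      map_mul' := fun x y => Subtype.ext (by simp [mul_assoc]) }
  let θ : A := ∏ q : G ⧸ A, cj q.out ⟨a, ha⟩
  have hinv : ∀ g : G, cj g θ = θ := by
    intro g
    rw [show cj g θ = ∏ q : G ⧸ A, cj g (cj q.out ⟨a, ha⟩) from map_prod _ _ _]
    refine Fintype.prod_equiv (MulAction.toPerm g) _ _ fun q => ?_
    obtain ⟨b, hb⟩ := QuotientGroup.mk_out_eq_mul A (g * q.out)
    have hq : g • q = ((g * q.out : G) : G ⧸ A) := by
      conv_lhs => rw [← QuotientGroup.out_eq' q]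
      rfl
    rw [MulAction.toPerm_apply, hq, hb]
    apply Subtype.ext
    simp only [cj, MonoidHom.coe_mk, OneHom.coe_mk, mul_inv_rev]
    have hba : (b : G) * a = a * b := congrArg Subtype.val (hc.is_comm.comm b ⟨a, ha⟩)
    calc g * (q.out * a * q.out⁻¹) * g⁻¹ = g * q.out * (a * b) * (b : G)⁻¹ * (q.out⁻¹ * g⁻¹) := by group
      _ = _ := by rw [← hba]; group
  have hθ : (θ : G) ∈ D := by
    rw [hD]
    refine mem_sup_right ⟨mem_center_iff.mpr fun g => ?_, θ.2⟩
    exact mul_inv_eq_iff_eq_mul.mp (congrArg Subtype.val (hinv g))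
  have hpow : (⟨a, ha⟩ : A) ^ A.index ∈ D.subgroupOf A := by
    have h3 : ∀ q : G ⧸ A, (cj q.out ⟨a, ha⟩)⁻¹ * ⟨a, ha⟩ ∈ D.subgroupOf A := by
      intro q
      rw [mem_subgroupOf, hD]
      refine mem_sup_left ?_
      rw [← h1]
      have h4 : ⁅a, q.out⁆ ∈ ⁅A, (⊤ : Subgroup G)⁆ := commutator_mem_commutator ha (mem_top _)
      have e : ((cj q.out ⟨a, ha⟩)⁻¹ * ⟨a, ha⟩ : A).1 = ⁅a, q.out⁆ := by
        rw [mul_comm]
        simp [cj, commutatorElement_def, mul_assoc]
      rw [e]; exact h4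
    have h5 : θ⁻¹ * (⟨a, ha⟩ : A) ^ A.index ∈ D.subgroupOf A := by
      rw [index_eq_card, Nat.card_eq_fintype_card, ← Finset.card_univ, ← Finset.prod_const,
        ← Finset.prod_inv_distrib, ← Finset.prod_mul_distrib]
      exact Subgroup.prod_mem _ fun q _ => h3 q
    simpa using (D.subgroupOf A).mul_mem (mem_subgroupOf.mpr hθ : θ ∈ D.subgroupOf A) h5
  obtain ⟨k, hk⟩ := exists_pow_eq_self_of_coprime
    ((hHall.coprime_dvd_left (orderOf_dvd_natCard (⟨a, ha⟩ : A))).symm)
  have := pow_mem hpow k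
  rw [hk] at this
  exact mem_subgroupOf.mp this

end CfsgLib.Transfer
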