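import Cfsg.Agent.Lib.Transfer.QuadraticRing
import Cfsg.Agent.Lib.OddOrder.QuadraticPair
import Cfsg.Agent.Lib.PLocal5.Quadratic
import Cfsg.Agent.Lib.PGroup.Frattini
import Cfsg.Agent.Lib.Coprime.Action
import Mathlib.Algebra.Module.ZMod
import Mathlib.Algebra.CharP.Algebra

/-!
A `p`-element acting quadratically on an elementary abelian `p`-group centralises, modulo the kernel,
the abelian `p'`-groups it normalises, and every `q`-group it normalises when `q` is odd or `p ≥ 5`.
-/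

set_option autoImplicit false

namespace CfsgLib.Transfer.QuadraticAction

open CfsgLib.Transfer.QuadraticRing
open scoped commutatorElement

universe u

variable {p : ℕ}

theorem isUnit_natCast {R : Type*} [Ring R] (hp : (p : R) = 0) {n : ℕ} (hn : n.Coprime p) :
    IsUnit (n : R) := by
  have h := Nat.gcd_eq_gcd_ab n p
  rw [hn.gcd_eq_one] at h
  have h' : (1 : R) = (n : R) * ((n.gcdA p : ℤ) : R) + (p : R) * ((n.gcdB p : ℤ) : R) := by
    simpa using congrArg (fun z : ℤ => (z : R)) h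
  rw [hp, zero_mul, add_zero] at h'
  exact isUnit_iff_exists.2 ⟨((n.gcdA p : ℤ) : R), h'.symm, by
    rw [← (Nat.cast_commute n _).eq]; exact h'.symm⟩

section Hom

variable {H : Type*} [Group H] {R : Type*} [Ring R] (ρ : H →* R) {a : H}

theorem map_zpow_unipotent (hN : (ρ a - 1) * (ρ a - 1) = 0) (i : ℤ) :
    ρ (a ^ i) = 1 + i • (ρ a - 1) := by
  induction i using Int.induction_on with
  | zero => simp
  | succ i ih =>
    rw [zpow_add_one, map_mul, ih, add_smul, one_smul]
    calc (1 + (i : ℤ) • (ρ a - 1)) * ρ a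
        = (1 + (i : ℤ) • (ρ a - 1)) * (1 + (ρ a - 1)) := by rw [add_sub_cancel]
      _ = _ := by rw [mul_add, mul_one, add_mul, one_mul, smul_mul_assoc, hN, smul_zero, add_zero,
            add_assoc]
  | pred i ih =>
    rw [zpow_sub_one, map_mul, ih, CfsgLib.OddOrder.QuadraticPair.inv_eq_two_sub ρ hN, sub_smul,
      one_smul]
    calc (1 + (-(i : ℤ)) • (ρ a - 1)) * (2 - ρ a)
        = (1 + (-(i : ℤ)) • (ρ a - 1)) * (1 - (ρ a - 1)) := by
          congr 1; rw [← sub_add, add_comm, ← one_add_one_eq_two]; abel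
      _ = _ := by rw [mul_sub, mul_one, add_mul, one_mul, smul_mul_assoc, hN, smul_zero, add_zero]; abel

theorem map_conj (hN : (ρ a - 1) * (ρ a - 1) = 0) (x : H) (i : ℤ) :
    ρ (a ^ i * x * a ^ (-i)) = conj (ρ a - 1) (ρ x) i := by
  rw [map_mul, map_mul, map_zpow_unipotent ρ hN, map_zpow_unipotent ρ hN, conj, neg_smul,
    ← sub_eq_add_neg]

theorem commute_of_comm (hN : (ρ a - 1) * (ρ a - 1) = 0) (hp : (p : R) = 0) (hp2 : (2 : ℕ).Coprime p)
    {x : H} {m : ℕ} (hm0 : 0 < m) (hm : m.Coprime p) (hx : ρ x ^ m = 1)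
    (h : ∀ i : ℤ, Commute (ρ x) (ρ (a ^ i * x * a ^ (-i)))) : Commute (ρ a) (ρ x) := by
  have h₁ := h 1
  have h₂ := h 2
  rw [map_conj ρ hN] at h₁ h₂
  have h2 : IsUnit (2 : R) := by simpa using isUnit_natCast hp hp2
  have := commute_of_conj_commute h2 (isUnit_natCast hp hm) hm0 hx h₁.eq h₂.eq
  rw [sub_mul, mul_sub, one_mul, mul_one, sub_left_inj] at this
  exact this

theorem commute_of_two_group [Finite H] [hpp : Fact p.Prime] (hN : (ρ a - 1) * (ρ a - 1) = 0)
    (hp : (p : R) = 0) (hp2 : p ≠ 2) (hp3 : p ≠ 3) (Q : Subgroup H) (hQ : IsPGroup 2 Q)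
    (haQ : a ∈ Subgroup.normalizer (Q : Set H)) : ∀ x ∈ Q, Commute (ρ a) (ρ x) := by
  suffices key : ∀ n, ∀ Q : Subgroup H, Nat.card Q = n → IsPGroup 2 Q →
      a ∈ Subgroup.normalizer (Q : Set H) → ∀ x ∈ Q, Commute (ρ a) (ρ x) from key _ Q rfl hQ haQ
  intro n
  induction n using Nat.strong_induction_on with
  | _ n ih =>
  intro Q hn hQ haQ
  subst hn
  have small : ∀ Q' : Subgroup H, Q' ≤ Q → a ∈ Subgroup.normalizer (Q' : Set H) → Q' ≠ Q →
      ∀ x ∈ Q', Commute (ρ a) (ρ x) := fun Q' hle ha' hne =>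
    ih _ (lt_of_not_ge fun h => hne (Subgroup.eq_of_le_of_card_ge hle h)) Q' rfl (hQ.to_le hle) ha'
  haveI h2f : Fact (Nat.Prime 2) := ⟨Nat.prime_two⟩
  have hc2 : (2 : ℕ).Coprime p := (Nat.coprime_primes Nat.prime_two hpp.out).2 (Ne.symm hp2)
  have hc3 : (3 : ℕ).Coprime p := (Nat.coprime_primes Nat.prime_three hpp.out).2 (Ne.symm hp3)
  set σ : H →* Rˣ := ρ.toHomUnits with hσ
  have hσv : ∀ h, ((σ h : Rˣ) : R) = ρ h := fun h => rfl
  have hcomm : ∀ h k, Commute (σ h) (σ k) ↔ Commute (ρ h) (ρ k) := fun h k => by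
    rw [← Commute.units_val_iff, hσv, hσv]
  -- the commutators with `a`
  set Q1 := Subgroup.closure ((fun x => ⁅a, x⁆) '' (Q : Set H)) with hQ1
  have hQ1le : Q1 ≤ Q := by
    rw [hQ1, Subgroup.closure_le]
    rintro _ ⟨x, hx, rfl⟩
    exact Q.mul_mem (CfsgLib.Coprime.mem_normalizer_conj haQ hx) (Q.inv_mem hx)
  have haQ1 : a ∈ Subgroup.normalizer (Q1 : Set H) := by
    refine CfsgLib.Coprime.mem_normalizer_of_forall_conj fun y hy => ?_
    have : Q1 ≤ Q1.comap (MulAut.conj a).toMonoidHom := by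
      conv_lhs => rw [hQ1]
      rw [Subgroup.closure_le]
      rintro _ ⟨x, hx, rfl⟩
      refine Subgroup.subset_closure ⟨a * x * a⁻¹, CfsgLib.Coprime.mem_normalizer_conj haQ hx, ?_⟩
      simp [commutatorElement_def, mul_assoc]
    exact this hy
  by_cases hlt : Q1 = Q
  swap
  · intro x hx
    have hz := small Q1 hQ1le haQ1 hlt ⁅a, x⁆ (Subgroup.subset_closure ⟨x, hx, rfl⟩)
    rw [← hcomm] at hz ⊢
    rw [map_commutatorElement] at hz
    set A := σ a with hA
    set X := σ x with hX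
    set Z := ⁅A, X⁆ with hZ
    have hconj : ∀ k : ℕ, A ^ k * X * (A ^ k)⁻¹ = Z ^ k * X := by
      intro k
      induction k with
      | zero => simp
      | succ k ih =>
        calc A ^ (k + 1) * X * (A ^ (k + 1))⁻¹ = A * (A ^ k * X * (A ^ k)⁻¹) * A⁻¹ := by
              rw [pow_succ']; group
          _ = Z ^ k * (A * X * A⁻¹) := by
              rw [ih, ← mul_assoc, (hz.pow_right k).eq]; simp [mul_assoc]
          _ = Z ^ (k + 1) * X := by rw [pow_succ, hZ, commutatorElement_def]; group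
    have hAp : A ^ p = 1 := by
      refine Units.ext ?_
      rw [hA, ← map_pow, hσv, Units.val_one, ← zpow_natCast, map_zpow_unipotent ρ hN, zsmul_eq_mul,
        Int.cast_natCast, hp, zero_mul, add_zero]
    have hZp : Z ^ p = 1 := by
      have := hconj p
      rw [hAp, inv_one, one_mul, mul_one] at this
      exact right_eq_mul.1 this
    obtain ⟨k, hk⟩ := hQ ⟨⁅a, x⁆, hQ1le (Subgroup.subset_closure ⟨x, hx, rfl⟩)⟩
    have hZk : Z ^ (2 ^ k) = 1 := by
      rw [hZ, hA, hX, ← map_commutatorElement, ← map_pow,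
        show ⁅a, x⁆ ^ (2 ^ k) = 1 from congrArg Subtype.val hk, map_one]
    have hZ1 : Z = 1 := by
      have := pow_gcd_eq_one.2 ⟨hZk, hZp⟩
      rwa [Nat.Coprime.gcd_eq_one (Nat.Coprime.pow_left k hc2), pow_one] at this
    exact commutatorElement_eq_one_iff_commute.1 hZ1
  -- now `Q` is generated by commutators with `a`
  rcases subsingleton_or_nontrivial Q with hs | hs
  · intro x hx
    rw [show x = 1 from congrArg Subtype.val (Subsingleton.elim (⟨x, hx⟩ : Q) 1), map_one]
    exact Commute.one_right _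
  set Φ := (frattini Q).map Q.subtype with hΦ
  have hΦlt : Φ ≠ Q := by
    intro h
    apply CfsgLib.PGroup.frattini_ne_top (P := Q)
    apply Subgroup.map_injective Q.subtype_injective
    rw [← hΦ, h, ← MonoidHom.range_eq_map, Subgroup.range_subtype]
  have haΦ : a ∈ Subgroup.normalizer (Φ : Set H) := by
    refine CfsgLib.Coprime.mem_normalizer_of_forall_conj ?_
    rintro _ ⟨w, hw, rfl⟩
    refine ⟨Q.normalizerMonoidHom ⟨a, haQ⟩ w, ?_, rfl⟩
    have h := Subgroup.characteristic_iff_map_eq.1 (inferInstance : (frattini Q).Characteristic)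
      (Q.normalizerMonoidHom ⟨a, haQ⟩)
    rw [← h]
    exact Subgroup.mem_map_of_mem _ hw
  have hΦa : ∀ w ∈ Φ, Commute (σ a) (σ w) := fun w hw =>
    (hcomm _ _).2 (small Φ (Subgroup.map_subtype_le _) haΦ hΦlt w hw)
  have hΦQ : ∀ w ∈ Φ, ∀ x ∈ Q, Commute (σ x) (σ w) := by
    intro w hw
    have hle : Q1 ≤ (Subgroup.centralizer {σ w}).comap σ := by
      rw [hQ1, Subgroup.closure_le]
      rintro _ ⟨x, hx, rfl⟩
      rw [SetLike.mem_coe, Subgroup.mem_comap, Subgroup.mem_centralizer_singleton_iff]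
      have hw' : x⁻¹ * w * x ∈ Φ := by
        obtain ⟨w, hw, rfl⟩ := hw
        exact ⟨⟨x, hx⟩⁻¹ * w * ⟨x, hx⟩,
          (inferInstance : (frattini Q).Normal).conj_mem' w hw ⟨x, hx⟩, rfl⟩
      have h1 : Commute (σ x * σ a * (σ x)⁻¹) (σ x * σ (x⁻¹ * w * x) * (σ x)⁻¹) :=
        (hΦa _ hw').map (MulAut.conj (σ x)).toMonoidHom
      have h2 : σ x * σ (x⁻¹ * w * x) * (σ x)⁻¹ = σ w := by
        simp only [map_mul, map_inv]; group
      rw [h2] at h1
      have h3 := (hΦa w hw).mul_left h1.inv_left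
      have h4 : σ a * (σ x * σ a * (σ x)⁻¹)⁻¹ = σ ⁅a, x⁆ := by
        rw [map_commutatorElement, commutatorElement_def]; group
      rw [h4] at h3
      exact h3.eq
    intro x hx
    have hx1 : x ∈ Q1 := hlt.symm ▸ hx
    exact Subgroup.mem_centralizer_singleton_iff.1 (hle hx1)
  intro x hx
  obtain ⟨k, hk⟩ := hQ ⟨x, hx⟩
  have hxk : ρ x ^ (2 ^ k) = 1 := by
    rw [← map_pow, show x ^ (2 ^ k) = 1 from congrArg Subtype.val hk, map_one]
  have h2 : IsUnit (2 : R) := by simpa using isUnit_natCast hp hc2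
  have h3 : IsUnit (3 : R) := by simpa using isUnit_natCast hp hc3
  have := commute_of_conj_commute_signs hN h2 h3
    (isUnit_natCast hp (Nat.Coprime.pow_left k hc2)) (by positivity) hxk (fun i _ => ?_)
  · rw [sub_mul, mul_sub, one_mul, mul_one, sub_left_inj] at this
    exact this
  set y := a ^ i * x * a ^ (-i) with hy
  have hconjQ : ∀ j : ℤ, a ^ j * x * a ^ (-j) ∈ Q := fun j => by
    rw [zpow_neg]
    exact CfsgLib.Coprime.mem_normalizer_conj (Subgroup.zpow_mem _ haQ j) hx
  have hyQ : y ∈ Q := hconjQ i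
  have hwΦ : ⁅x, y⁆ ∈ Φ := ⟨⁅⟨x, hx⟩, ⟨y, hyQ⟩⁆, CfsgLib.PGroup.commutator_le_frattini hQ
    (Subgroup.commutator_mem_commutator (Subgroup.mem_top _) (Subgroup.mem_top _)), rfl⟩
  have hsqΦ : x ^ 2 ∈ Φ := ⟨⟨x, hx⟩ ^ 2, CfsgLib.PGroup.pow_mem_frattini hQ _, rfl⟩
  set c := σ ⁅x, y⁆ with hc
  set X := σ x with hX
  set Y := σ y with hY
  have hca : Commute (σ a) c := hΦa _ hwΦ
  have hcX : Commute X c := hΦQ _ hwΦ x hx
  have hcY : Commute Y c := hΦQ _ hwΦ y hyQ
  have hXY : X * Y = c * Y * X := by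
    rw [hc, map_commutatorElement, commutatorElement_def, ← hX, ← hY]; group
  have hsq : Commute Y (X * X) := by
    rw [← sq, hX, ← map_pow]; exact hΦQ _ hsqΦ y hyQ
  have hcc : c * c = 1 := by
    have e : X * X * Y = (c * c) * (Y * (X * X)) := by
      calc X * X * Y = X * (X * Y) := mul_assoc _ _ _
        _ = (X * c) * (Y * X) := by rw [hXY]; group
        _ = c * (X * Y) * X := by rw [hcX.eq]; group
        _ = c * (c * Y * X) * X := by rw [hXY]
        _ = _ := by group
    rw [hsq.eq] at e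
    exact right_eq_mul.1 e
  set y' := a ^ (-i) * x * a ^ (- -i) with hy'
  have hXY' : σ x * σ y' = c * σ y' * σ x := by
    have e : ⁅σ x, σ y'⁆ = (σ a ^ i)⁻¹ * c⁻¹ * (σ a ^ i) := by
      rw [hc, ← map_commutatorElement, ← map_inv, commutatorElement_inv, ← map_zpow, ← map_inv,
        ← map_mul, ← map_mul]
      congr 1
      rw [hy', hy]
      simp only [commutatorElement_def]
      group
    have hci : c⁻¹ = c := inv_eq_of_mul_eq_one_right hcc
    rw [hci, mul_assoc, (hca.zpow_left i).symm.eq, inv_mul_cancel_left] at e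
    rw [← e, commutatorElement_def]
    group
  refine ⟨(c : R), ?_, ?_, ?_, ?_, ?_⟩
  · rw [← Units.val_mul, hcc, Units.val_one]
  · exact (hcX.symm.units_val).eq
  · have e : (c : R) * ρ a = ρ a * (c : R) := (hca.symm.units_val).eq
    rw [mul_sub, sub_mul, mul_one, one_mul, e]
  · rw [← map_conj ρ hN]
    rw [← hσv, ← hσv, ← Units.val_mul, ← Units.val_mul, ← Units.val_mul]
    exact congrArg Units.val hXY
  · rw [← map_conj ρ hN]
    rw [← hσv, ← hσv, ← Units.val_mul, ← Units.val_mul, ← Units.val_mul]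
    exact congrArg Units.val hXY'

end Hom

section Linear

variable {H : Type*} [Group H] [Finite H] [hpp : Fact p.Prime] {W : Type*} [AddCommGroup W]
  [Module (ZMod p) W] [Finite W] (ρ : H →* Module.End (ZMod p) W) {a : H}

theorem natCast_end_eq_zero : (p : Module.End (ZMod p) W) = 0 := by
  rw [← map_natCast (algebraMap (ZMod p) (Module.End (ZMod p) W)) p, ZMod.natCast_self, map_zero]

/-- A quadratic `p`-element commutes with a normalised `q`-group, if `q` is odd, or `p ≥ 5`, or the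
`q`-group is abelian. -/
theorem commute_of_isPGroup [Group.IsSolvable H] (hp2 : p ≠ 2)
    (hN : (ρ a - 1) * (ρ a - 1) = 0) {k : ℕ} (hak : a ^ (p ^ k) = 1) {q : ℕ} [hq : Fact q.Prime]
    (hqp : q ≠ p) {Q : Subgroup H} (hQ : IsPGroup q Q) (haQ : a ∈ Subgroup.normalizer (Q : Set H))
    (hcase : q ≠ 2 ∨ p ≠ 3 ∨ IsMulCommutative Q) {x : H} (hx : x ∈ Q) :
    Commute (ρ a) (ρ x) := by
  have hcop : q.Coprime p := (Nat.coprime_primes hq.out hpp.out).2 hqp
  by_cases habel : IsMulCommutative Q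
  · obtain ⟨j, hj⟩ := hQ ⟨x, hx⟩
    refine commute_of_comm ρ hN natCast_end_eq_zero
      ((Nat.coprime_primes Nat.prime_two hpp.out).2 (Ne.symm hp2)) (pow_pos hq.out.pos j)
      (Nat.Coprime.pow_left j hcop)
      (by rw [← map_pow, show x ^ (q ^ j) = 1 from congrArg Subtype.val hj, map_one]) fun i => ?_
    refine Commute.map (setLike_mul_comm (S := Subgroup H) hx ?_) ρ
    rw [zpow_neg]
    exact CfsgLib.Coprime.mem_normalizer_conj (Subgroup.zpow_mem _ haQ i) hx
  rcases eq_or_ne q 2 with rfl | hq2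
  · exact commute_of_two_group ρ hN natCast_end_eq_zero hp2
      ((hcase.resolve_left (not_not.2 rfl)).resolve_right habel) Q hQ haQ x hx
  -- `q` odd: work in the odd order group `Q⟨a⟩`
  set K : Subgroup H := Q ⊔ Subgroup.zpowers a with hK
  have hKc : Odd (Nat.card K) := by
    have hd : Nat.card K ∣ Nat.card (Subgroup.zpowers a) * Nat.card Q := by
      rw [hK, sup_comm]
      exact CfsgLib.Coprime.card_sup_dvd (Subgroup.zpowers_le.2 haQ)
    refine Odd.of_dvd_nat (Odd.mul ?_ ?_) hd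
    · rw [Nat.card_zpowers]
      exact Odd.of_dvd_nat ((hpp.out.odd_of_ne_two hp2).pow (n := k)) (orderOf_dvd_of_pow_eq_one hak)
    · obtain ⟨j, hj⟩ := IsPGroup.iff_card.1 hQ
      rw [hj]; exact (hq.out.odd_of_ne_two hq2).pow
  have haK : a ∈ K := Subgroup.mem_sup_right (Subgroup.mem_zpowers _)
  have hxK : x * a * x⁻¹ ∈ K :=
    K.mul_mem (K.mul_mem (Subgroup.mem_sup_left hx) haK) (K.inv_mem (Subgroup.mem_sup_left hx))
  have hNb : (ρ (x * a * x⁻¹) - 1) * (ρ (x * a * x⁻¹) - 1) = 0 := by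
    have hinv : ρ x⁻¹ * ρ x = 1 := by rw [← map_mul, inv_mul_cancel, map_one]
    have e : ρ (x * a * x⁻¹) - 1 = ρ x * (ρ a - 1) * ρ x⁻¹ := by
      rw [mul_sub, sub_mul, mul_one, ← map_mul, ← map_mul, ← map_mul, mul_inv_cancel, map_one]
    rw [e]
    calc ρ x * (ρ a - 1) * ρ x⁻¹ * (ρ x * (ρ a - 1) * ρ x⁻¹)
        = ρ x * ((ρ a - 1) * (ρ x⁻¹ * ρ x) * (ρ a - 1)) * ρ x⁻¹ := by simp only [mul_assoc]
      _ = 0 := by rw [hinv, mul_one, hN, mul_zero, zero_mul]
  obtain ⟨j, hj⟩ := CfsgLib.OddOrder.QuadraticPair.isNilpotent_quotient hKc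
    (Ring.two_ne_zero (by rw [ZMod.ringChar_zmod_n]; exact hp2))
    (ρ.comp K.subtype) (a := ⟨a, haK⟩) (b := ⟨_, hxK⟩) hN hNb
  set z : H := a⁻¹ * (x * a * x⁻¹) with hz
  change (ρ z - 1) ^ j = 0 at hj
  have hzQ : z ∈ Q := by
    rw [hz, ← mul_assoc, ← mul_assoc]
    exact Q.mul_mem (CfsgLib.Coprime.mem_normalizer_conj' haQ hx) (Q.inv_mem hx)
  obtain ⟨i, hi⟩ := hQ ⟨z, hzQ⟩
  have hz1 : ρ z = 1 := by
    rcases subsingleton_or_nontrivial W with hW | hW
    · exact LinearMap.ext fun v => Subsingleton.elim _ _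
    haveI : CharP (Module.End (ZMod p) W) p :=
      charP_of_injective_algebraMap (algebraMap (ZMod p) _).injective p
    have h0 : (ρ z - 1) ^ (p ^ j) = 0 := pow_eq_zero_of_le (Nat.lt_pow_self hpp.out.one_lt).le hj
    rw [sub_pow_char_pow_of_commute _ _ (Commute.one_right _), one_pow, sub_eq_zero] at h0
    have := pow_gcd_eq_one.2 (show ρ z ^ (q ^ i) = 1 ∧ ρ z ^ (p ^ j) = 1 from ⟨by
      rw [← map_pow, show z ^ (q ^ i) = 1 from congrArg Subtype.val hi, map_one], h0⟩)
    rwa [Nat.Coprime.gcd_eq_one (Nat.Coprime.pow _ _ hcop), pow_one] at this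
  have : x * a = a * x * (x⁻¹ * z * x) := by rw [hz]; group
  have h5 := congrArg ρ this
  rw [map_mul ρ (a * x), map_mul ρ (x⁻¹ * z), map_mul ρ x⁻¹, hz1, mul_one, ← map_mul ρ x⁻¹,
    inv_mul_cancel, map_one, mul_one, map_mul, map_mul] at h5
  exact h5.symm

end Linear

section Group

variable {G : Type u} [Group G] [Finite G] [hp : Fact p.Prime]

/-- The linear action of `N_G(V)` on an elementary abelian `p`-group `V`. -/
theorem exists_action {V : Subgroup G} (hV : Cfsg.IsElementaryAbelian p V) :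
    ∃ (W : Type u) (_ : AddCommGroup W) (_ : Module (ZMod p) W) (_ : Finite W),
      ∃ ρ : ↥(Subgroup.normalizer (V : Set G)) →* Module.End (ZMod p) W,
        (∀ n : ↥(Subgroup.normalizer (V : Set G)),
          ρ n = 1 ↔ (n : G) ∈ Subgroup.centralizer (V : Set G)) ∧
          ∀ n : ↥(Subgroup.normalizer (V : Set G)), (∀ v ∈ V, (n : G) * ⁅v, (n : G)⁆ = ⁅v, (n : G)⁆ * n) →
            (ρ n - 1) * (ρ n - 1) = 0 := by
  letI : CommGroup V := { (inferInstance : Group V) with
    mul_comm := fun a b => Subtype.ext (CfsgLib.Quadratic.elemAb_comm hV a.2 b.2) }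
  have hpow : ∀ v : Additive V, p • v = 0 := fun v => by
    apply Additive.toMul.injective
    rw [toMul_nsmul, toMul_zero]
    exact Subtype.ext (by simpa using hV.2 _ (Additive.toMul v).2)
  letI : Module (ZMod p) (Additive V) := AddCommGroup.zmodModule (n := p) hpow
  let act : ↥(Subgroup.normalizer (V : Set G)) → Module.End (ZMod p) (Additive V) := fun n =>
    (MonoidHom.toAdditive (V.normalizerMonoidHom n).toMonoidHom).toZModLinearMap p
  have hact : ∀ n (v : V), act n (Additive.ofMul v) = Additive.ofMul (V.normalizerMonoidHom n v) :=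
    fun _ _ => rfl
  have hext : ∀ f g : Module.End (ZMod p) (Additive V),
      (∀ v : V, f (Additive.ofMul v) = g (Additive.ofMul v)) → f = g :=
    fun f g h => LinearMap.ext fun v => h (Additive.toMul v)
  let ρ : ↥(Subgroup.normalizer (V : Set G)) →* Module.End (ZMod p) (Additive V) :=
    { toFun := act
      map_one' := hext _ _ fun v => by rw [hact, map_one]; rfl
      map_mul' := fun m n => hext _ _ fun v => by
        rw [Module.End.mul_apply, hact, hact, hact, map_mul]; rfl }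
  have hconj : ∀ (n : ↥(Subgroup.normalizer (V : Set G))) (v : V),
      ((V.normalizerMonoidHom n v : V) : G) = n * v * (n : G)⁻¹ := fun _ _ => rfl
  refine ⟨Additive V, inferInstance, inferInstance, (inferInstance : Finite V), ρ, fun n => ?_,
    fun n hn => hext _ _ fun v => ?_⟩
  · rw [Subgroup.mem_centralizer_iff]
    constructor
    · intro h v hv
      have h1 := congrArg (fun f : Module.End (ZMod p) (Additive V) =>
        ((Additive.toMul (f (Additive.ofMul ⟨v, hv⟩)) : V) : G)) h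
      change ((V.normalizerMonoidHom n ⟨v, hv⟩ : V) : G) = v at h1
      rw [hconj, mul_inv_eq_iff_eq_mul] at h1
      exact h1.symm
    · intro h
      refine hext _ _ fun v => ?_
      show act n _ = _
      rw [hact]
      refine congrArg Additive.ofMul (Subtype.ext ?_)
      rw [hconj, mul_inv_eq_iff_eq_mul]
      exact (h v v.2).symm
  · set w : V := V.normalizerMonoidHom n v * v⁻¹ with hw
    have h1 : (ρ n - 1) (Additive.ofMul v) = Additive.ofMul w := by
      rw [LinearMap.sub_apply, Module.End.one_apply]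
      show act n _ - _ = _
      rw [hact, hw, ofMul_mul, ofMul_inv, sub_eq_add_neg]
    have h2 : V.normalizerMonoidHom n w = w := by
      apply Subtype.ext
      have hwv : (w : G) = ⁅(v : G), (n : G)⁆⁻¹ := by
        rw [hw, commutatorElement_inv, commutatorElement_def, Subgroup.coe_mul, hconj,
          Subgroup.coe_inv]
      rw [hconj, hwv]
      have hc : Commute (n : G) ⁅(v : G), (n : G)⁆⁻¹ :=
        (show Commute (n : G) ⁅(v : G), (n : G)⁆ from hn v v.2).inv_right
      rw [hc.eq, mul_inv_cancel_right]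
    rw [Module.End.mul_apply, h1, LinearMap.sub_apply, Module.End.one_apply]
    show act n _ - _ = _
    rw [hact, h2, sub_self]
    rfl

variable {V : Subgroup G} {a : G}

/-- A quadratic element commutes modulo `C(V)` with a `p'`-element commuting modulo `C(V)` with its
conjugates under powers of it. -/
theorem commutator_mem_of_comm (hp2 : p ≠ 2) (hV : Cfsg.IsElementaryAbelian p V)
    (haN : a ∈ Subgroup.normalizer (V : Set G))
    (hquad : ∀ v ∈ V, a * ⁅v, a⁆ = ⁅v, a⁆ * a) {x : G}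
    (hxN : x ∈ Subgroup.normalizer (V : Set G)) {m : ℕ} (hm0 : 0 < m) (hm : m.Coprime p)
    (hxm : x ^ m ∈ Subgroup.centralizer (V : Set G))
    (h : ∀ i : ℤ, ⁅x, a ^ i * x * a ^ (-i)⁆ ∈ Subgroup.centralizer (V : Set G)) :
    ⁅a, x⁆ ∈ Subgroup.centralizer (V : Set G) := by
  obtain ⟨W, _, _, _, ρ, hker, hq⟩ := exists_action (p := p) hV
  set a' : ↥(Subgroup.normalizer (V : Set G)) := ⟨a, haN⟩
  set x' : ↥(Subgroup.normalizer (V : Set G)) := ⟨x, hxN⟩
  have hp0 : (p : Module.End (ZMod p) W) = 0 := by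
    rw [← map_natCast (algebraMap (ZMod p) (Module.End (ZMod p) W)) p, ZMod.natCast_self, map_zero]
  have key : ∀ y z : ↥(Subgroup.normalizer (V : Set G)),
      Commute (ρ y) (ρ z) ↔ (⁅(y : G), (z : G)⁆) ∈ Subgroup.centralizer (V : Set G) := by
    intro y z
    rw [show ⁅(y : G), (z : G)⁆ = ((⁅y, z⁆ : ↥(Subgroup.normalizer (V : Set G))) : G) from rfl,
      ← hker]
    show _ ↔ ((ρ.toHomUnits ⁅y, z⁆ : (Module.End (ZMod p) W)ˣ) : Module.End (ZMod p) W) = 1
    rw [Units.val_eq_one, map_commutatorElement, commutatorElement_eq_one_iff_commute,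
      ← Commute.units_val_iff]
    rfl
  have := commute_of_comm ρ (hq a' hquad) hp0
    ((Nat.coprime_primes Nat.prime_two hp.out).2 (Ne.symm hp2)) (x := x') hm0 hm
    (by rw [← map_pow, hker]; simpa using hxm)
    (fun i => (key _ _).2 (by simpa using h i))
  exact (key a' x').1 this

/-- For normal `V`, the faithful action of `G / C_G(V)`. -/
theorem exists_action_quotient (V : Subgroup G) [V.Normal] (hV : Cfsg.IsElementaryAbelian p V) :
    ∃ (W : Type u) (_ : AddCommGroup W) (_ : Module (ZMod p) W) (_ : Finite W),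
      ∃ ρ : G ⧸ Subgroup.centralizer (V : Set G) →* Module.End (ZMod p) W,
        Function.Injective ρ ∧ ∀ g : G, (∀ v ∈ V, g * ⁅v, g⁆ = ⁅v, g⁆ * g) →
          (ρ g - 1) * (ρ g - 1) = 0 := by
  obtain ⟨W, _, _, _, ρ, hker, hq⟩ := exists_action (p := p) hV
  let i : G →* ↥(Subgroup.normalizer (V : Set G)) :=
    (MonoidHom.id G).codRestrict _ fun g => (Subgroup.normalizer_eq_top V).ge (Subgroup.mem_top g)
  let f : G →* (Module.End (ZMod p) W)ˣ := ρ.toHomUnits.comp i
  have hf : ∀ g : G, f g = 1 ↔ g ∈ Subgroup.centralizer (V : Set G) := fun g => by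
    rw [← Units.val_eq_one]; exact hker (i g)
  let fb : G ⧸ Subgroup.centralizer (V : Set G) →* (Module.End (ZMod p) W)ˣ :=
    QuotientGroup.lift _ f fun g hg => MonoidHom.mem_ker.2 ((hf g).2 hg)
  refine ⟨W, inferInstance, inferInstance, inferInstance, (Units.coeHom _).comp fb,
    Units.val_injective.comp ?_, fun g hg => hq (i g) hg⟩
  rw [injective_iff_map_eq_one]
  intro x hx
  obtain ⟨g, rfl⟩ := QuotientGroup.mk_surjective x
  exact (QuotientGroup.eq_one_iff g).2 ((hf g).1 hx)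

end Group

end CfsgLib.Transfer.QuadraticAction
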