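import Cfsg.Agent.Lib.Transfer.ThompsonFactor
import Cfsg.Agent.Lib.Transfer.NormalComplement
import Cfsg.Agent.Lib.PLocal.Constraint
import Cfsg.Agent.Lib.OddOrder41.FixOmega
import Cfsg.Agent.Lib.Techniques.FusionInduction

/-!
Thompson's normal `p`-complement theorem, `p` odd: `G` has a normal `p`-complement as soon as
`N_G(J(P))` and `C_G(Z(P))` have one.
-/

set_option autoImplicit false

namespace CfsgLib.Transfer.ThompsonNPC

open CfsgLib.PLocal
open scoped commutatorElement

universe u

variable {G : Type u} [Group G] {p : ℕ}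

/-- The hypotheses of Thompson's theorem at the `p`-subgroup `P`. -/
def Local (p : ℕ) (P : Subgroup G) : Prop :=
  Cfsg.HasNormalPComplement p ↥(Subgroup.normalizer (thompson p P : Set G)) ∧
    Cfsg.HasNormalPComplement p
      ↥(Subgroup.centralizer ((P ⊓ Subgroup.centralizer (P : Set G) : Subgroup G) : Set G))

variable [Finite G] [hp : Fact p.Prime]

theorem npc_of_map_le {H : Type*} [Group H] [Finite H] {f : H →* G} (hf : Function.Injective f)
    {A : Subgroup H} {B : Subgroup G} (h : A.map f ≤ B) (hB : Cfsg.HasNormalPComplement p B) :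
    Cfsg.HasNormalPComplement p A := by
  refine hasNormalPComplement_of_injective
    ((f.comp A.subtype).codRestrict B fun x => h (Subgroup.mem_map_of_mem f x.2)) ?_ hB
  exact fun x y e => Subtype.ext (hf (congrArg Subtype.val e))

theorem npc_mono {A B : Subgroup G} (h : A ≤ B) (hB : Cfsg.HasNormalPComplement p B) :
    Cfsg.HasNormalPComplement p A :=
  npc_of_map_le (f := MonoidHom.id G) (fun _ _ e => e) (by rwa [Subgroup.map_id]) hB

theorem Local.of_map {H : Type*} [Group H] [Finite H] {f : H →* G} (hf : Function.Injective f)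
    {T : Subgroup H} {P : Subgroup G} (hT : T.map f = P) (h : Local p P) : Local p T := by
  subst hT
  refine ⟨npc_of_map_le hf ?_ h.1, npc_of_map_le hf ?_ h.2⟩
  · rw [thompson_map hf]; exact Subgroup.le_normalizer_map f
  · rintro _ ⟨x, hx, rfl⟩
    rw [Subgroup.mem_centralizer_iff]
    rintro y ⟨⟨y, hy, rfl⟩, hyc⟩
    rw [← map_mul, ← map_mul]
    refine congrArg f (Subgroup.mem_centralizer_iff.1 hx y ⟨hy, ?_⟩)
    exact Subgroup.mem_centralizer_iff.2 fun z hz =>
      hf (by rw [map_mul, map_mul]; exact Subgroup.mem_centralizer_iff.1 hyc _ ⟨z, hz, rfl⟩)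

theorem center_inf_ne_bot {P : Subgroup G} (hP : IsPGroup p P) (h : P ≠ ⊥) :
    P ⊓ Subgroup.centralizer (P : Set G) ≠ ⊥ := by
  haveI : Nontrivial P := (Subgroup.nontrivial_iff_ne_bot P).mpr h
  obtain ⟨⟨z, hz⟩, hz1⟩ := Subgroup.ne_bot_iff_exists_ne_one.mp (ne_of_gt hP.bot_lt_center)
  intro hbot
  have : ((z : P) : G) ∈ P ⊓ Subgroup.centralizer (P : Set G) :=
    ⟨(z : P).2, Subgroup.mem_centralizer_iff.mpr fun a ha =>
      congrArg Subtype.val (Subgroup.mem_center_iff.mp hz ⟨a, ha⟩)⟩
  rw [hbot, Subgroup.mem_bot] at this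
  exact hz1 (Subtype.ext (Subtype.ext this))

theorem thompson_ne_bot {P : Subgroup G} (hP : IsPGroup p P) (h : P ≠ ⊥) : thompson p P ≠ ⊥ := by
  haveI : Nontrivial ↥(P ⊓ Subgroup.centralizer (P : Set G)) :=
    (Subgroup.nontrivial_iff_ne_bot _).mpr (center_inf_ne_bot hP h)
  obtain ⟨n, hn, hc⟩ := (hP.to_inf_left (K := Subgroup.centralizer (P : Set G))).nontrivial_iff_card.1
    inferInstance
  obtain ⟨x, hx⟩ := exists_prime_orderOf_dvd_card' (G := ↥(P ⊓ Subgroup.centralizer (P : Set G))) p
    (hc ▸ dvd_pow_self p hn.ne')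
  have hxp : (x : G) ^ p = 1 := by
    have h := congrArg Subtype.val (pow_orderOf_eq_one x)
    rw [hx] at h
    simpa using h
  obtain ⟨A, hA⟩ := exists_isMaxElemIn p P
  have hxA : (x : G) ∈ A := hA.mem_of_centralizes x.2.1 hxp fun a ha =>
    Subgroup.mem_centralizer_iff.1 x.2.2 a (hA.le ha)
  intro hbot
  have h2 := hA.le_thompson hxA
  rw [hbot, Subgroup.mem_bot] at h2
  have h3 : x = 1 := Subtype.ext h2
  simp [h3, hp.out.ne_one.symm] at hx

theorem le_normalizer_center (P : Subgroup G) :
    Subgroup.normalizer (P : Set G) ≤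
      Subgroup.normalizer ((P ⊓ Subgroup.centralizer (P : Set G) : Subgroup G) : Set G) := by
  intro g hg
  refine CfsgLib.Techniques.mem_normalizer_inf hg ?_
  refine CfsgLib.Coprime.mem_normalizer_of_forall_conj fun x hx => ?_
  exact CfsgLib.Quadratic.conj_mem_centralizer hg hx

theorem npc_of_normalizer_top {K : Subgroup G} (hK : Subgroup.normalizer (K : Set G) = ⊤)
    (h : Cfsg.HasNormalPComplement p ↥(Subgroup.normalizer (K : Set G))) :
    Cfsg.HasNormalPComplement p G := by
  rw [hK] at h
  exact hasNormalPComplement_of_mulEquiv Subgroup.topEquiv h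

theorem isPGroup_of_pResidual_eq_bot (h : Cfsg.pResidual p G = ⊥) : IsPGroup p G :=
  (isPGroup_quotient_of_pResidual_le (⊥ : Subgroup G) h.le).of_equiv QuotientGroup.quotientBot

/-- The configuration at the end of Thompson's proof. -/
theorem final_step (hp2 : p ≠ 2) (P : Sylow p G) (V : Subgroup G) [V.Normal]
    (hV : Cfsg.IsElementaryAbelian p V)
    (hO : Cfsg.pCore p (G ⧸ Subgroup.centralizer (V : Set G)) = ⊥)
    (K : Subgroup (G ⧸ Subgroup.centralizer (V : Set G))) [K.Normal] [IsMulCommutative K]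
    (hKc : (Nat.card K).Coprime p)
    (hgen : (P : Subgroup G).map (QuotientGroup.mk' (Subgroup.centralizer (V : Set G))) ⊔ K = ⊤)
    {b : G} (hb : b ∈ (P : Subgroup G)) (hbq : ∀ v ∈ V, b * ⁅v, b⁆ = ⁅v, b⁆ * b) :
    b ∈ Subgroup.centralizer (V : Set G) := by
  set C := Subgroup.centralizer (V : Set G) with hC
  obtain ⟨W, _, _, _, ρ, hρ, hρq⟩ :=
    CfsgLib.Transfer.QuadraticAction.exists_action_quotient (p := p) V hV
  set f := QuotientGroup.mk' C with hf
  have hbK : f b ∈ Subgroup.centralizer (K : Set (G ⧸ C)) := by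
    rw [Subgroup.mem_centralizer_iff]
    intro x hx
    apply hρ
    rw [map_mul, map_mul]
    refine (CfsgLib.Transfer.QuadraticAction.commute_of_comm ρ (hρq b hbq)
      CfsgLib.Transfer.QuadraticAction.natCast_end_eq_zero
      ((Nat.coprime_primes Nat.prime_two hp.out).2 (Ne.symm hp2)) (Nat.card_pos (α := K)) hKc ?_
      fun i => ?_).symm.eq
    · rw [← map_pow, show x ^ Nat.card K = 1 from
        congrArg Subtype.val (pow_card_eq_one' (x := (⟨x, hx⟩ : K))), map_one]
    · refine Commute.map (setLike_mul_comm (S := Subgroup (G ⧸ C)) hx ?_) ρ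
      rw [zpow_neg]
      exact (inferInstance : K.Normal).conj_mem x hx _
  set Pb := (P : Subgroup G).map f with hPb
  set D := Pb ⊓ Subgroup.centralizer (K : Set (G ⧸ C)) with hD
  have hDn : D.Normal := by
    rw [← Subgroup.normalizer_eq_top_iff, eq_top_iff, ← hgen, sup_le_iff]
    refine ⟨fun y hy => CfsgLib.Techniques.mem_normalizer_inf (Subgroup.le_normalizer hy)
      (by rw [Subgroup.normalizer_eq_top]; trivial), ?_⟩
    intro y hy
    refine CfsgLib.Coprime.mem_normalizer_of_forall_conj fun x hx => ?_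
    rwa [Subgroup.mem_centralizer_iff.1 hx.2 y hy, mul_inv_cancel_right]
  have hbD : f b ∈ D := ⟨Subgroup.mem_map_of_mem f hb, hbK⟩
  have := CfsgLib.PCore.le_pCore hDn ((P.2.map f).to_inf_left) hbD
  rw [hO, Subgroup.mem_bot] at this
  exact (QuotientGroup.eq_one_iff b).1 this

theorem main (hp2 : p ≠ 2) (P : Sylow p G) (h : Local p (P : Subgroup G)) :
    Cfsg.HasNormalPComplement p G := by
  suffices key : ∀ n : ℕ, ∀ (G : Type u) [Group G] [Finite G], Nat.card G = n →
      ∀ P : Sylow p G, Local p (P : Subgroup G) → Cfsg.HasNormalPComplement p G from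
    key _ G rfl P h
  clear h P
  intro n
  induction n using Nat.strong_induction_on with
  | _ n ih =>
  intro G _ _ hn P hloc
  subst hn
  by_contra hno
  -- the hypotheses hold at every Sylow subgroup
  have hlocS : ∀ S : Sylow p G, Local p (S : Subgroup G) := by
    intro S
    obtain ⟨w, rfl⟩ := MulAction.exists_smul_eq G P S
    refine Local.of_map (f := (MulAut.conj w⁻¹).toMonoidHom) (MulAut.conj w⁻¹).injective ?_ hloc
    ext x
    constructor
    · rintro ⟨_, ⟨y, hy, rfl⟩, rfl⟩
      show w⁻¹ * (w * y * w⁻¹) * (w⁻¹)⁻¹ ∈ (P : Subgroup G)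
      rw [show w⁻¹ * (w * y * w⁻¹) * (w⁻¹)⁻¹ = y by group]
      exact hy
    · intro hx
      exact ⟨w * x * w⁻¹, ⟨x, hx, rfl⟩, by simp [mul_assoc]⟩
  -- proper overgroups of Sylow subgroups
  have hover : ∀ (S : Sylow p G) (M : Subgroup G), (S : Subgroup G) ≤ M → M ≠ ⊤ →
      Cfsg.HasNormalPComplement p M := by
    intro S M hSM hM
    refine ih _ ?_ M rfl (S.subtype hSM) ?_
    · exact lt_of_le_of_ne M.card_le_card_group fun e => hM (Subgroup.eq_top_of_card_eq M e)
    · refine Local.of_map M.subtype_injective ?_ (hlocS S)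
      rw [Sylow.coe_subtype]
      exact Subgroup.map_subgroupOf_eq_of_le hSM
  set R := Cfsg.pCore p G with hR
  haveI hRn : R.Normal := Cfsg.pCore_normal p G
  have hRp : IsPGroup p R := CfsgLib.PCore.pCore_isPGroup
  -- `R ≠ 1`
  have hR1 : R ≠ ⊥ := by
    intro hR0
    apply hno
    have hloc' : ∀ k, ∀ Q T : Subgroup G, IsPGroup p Q → Q ≠ ⊥ → IsPGroup p T →
        T ≤ Subgroup.normalizer (Q : Set G) → Nat.card G - Nat.card T = k →
        Cfsg.HasNormalPComplement p ↥(Subgroup.normalizer (Q : Set G)) := by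
      intro k
      induction k using Nat.strong_induction_on with
      | _ k ihk =>
      intro Q T₀ hQ hQ1 hT₀ hT₀N hk
      set N := Subgroup.normalizer (Q : Set G) with hN
      have hNtop : N ≠ ⊤ := fun e => hQ1 (by
        rw [eq_bot_iff, ← hR0]
        exact CfsgLib.PCore.le_pCore (Subgroup.normalizer_eq_top_iff.1 e) hQ)
      obtain ⟨T, hT⟩ := (hT₀.comap_of_injective N.subtype N.subtype_injective).exists_le_sylow
      set P₀ := (T : Subgroup N).map N.subtype with hP₀
      have hTP₀ : T₀ ≤ P₀ := fun x hx => ⟨⟨x, hT₀N hx⟩, hT hx, rfl⟩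
      have hP₀p : IsPGroup p P₀ := T.2.map _
      obtain ⟨S, hS⟩ := hP₀p.exists_le_sylow
      rcases eq_or_lt_of_le hS with hS' | hS'
      · exact hover S N (hS' ▸ Subgroup.map_subtype_le _) hNtop
      -- some nontrivial `p`-subgroup normalised by a larger `p`-subgroup
      set U := (S : Subgroup G) ⊓ Subgroup.normalizer (P₀ : Set G) with hU
      have hUlt : P₀ < U := CfsgLib.Techniques.Fusion.lt_inf_normalizer S.2 hS'
      have hbig : ∀ X : Subgroup G, IsPGroup p X → X ≠ ⊥ →
          Subgroup.normalizer (P₀ : Set G) ≤ Subgroup.normalizer (X : Set G) →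
          Cfsg.HasNormalPComplement p ↥(Subgroup.normalizer (X : Set G)) := by
        intro X hX hX1 hle
        refine ihk (Nat.card G - Nat.card U) ?_ X U hX hX1 S.2.to_inf_left (inf_le_right.trans hle) rfl
        have h1 : Nat.card T₀ ≤ Nat.card P₀ := Subgroup.card_le_of_le hTP₀
        have h2 : Nat.card P₀ < Nat.card U := lt_of_le_of_ne (Subgroup.card_le_of_le hUlt.le)
          fun e => hUlt.ne (Subgroup.eq_of_le_of_card_ge hUlt.le e.ge)
        have h3 : Nat.card U ≤ Nat.card G := U.card_le_card_group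
        omega
      have hP₀1 : P₀ ≠ ⊥ := by
        intro e
        apply hQ1
        have hQN : Q ≤ N := Subgroup.le_normalizer
        have hQn : (Q.subgroupOf N).Normal := Subgroup.normal_in_normalizer
        have hle := (CfsgLib.PCore.le_pCore hQn (hQ.comap_of_injective _ N.subtype_injective)).trans
          (CfsgLib.PCore.pCore_le_sylow T)
        rw [← Subgroup.map_subgroupOf_eq_of_le hQN, eq_bot_iff, ← e]
        exact Subgroup.map_mono hle
      refine ih _ (lt_of_le_of_ne N.card_le_card_group fun e => hNtop (Subgroup.eq_top_of_card_eq N e))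
        N rfl T (Local.of_map N.subtype_injective (P := P₀) rfl ⟨?_, ?_⟩)
      · exact hbig _ (hP₀p.to_le (thompson_le p _)) (thompson_ne_bot hP₀p hP₀1)
          (normalizer_le_normalizer_thompson p _)
      · exact npc_mono (Subgroup.centralizer_le_normalizer _)
          (hbig _ hP₀p.to_inf_left (center_inf_ne_bot hP₀p hP₀1) (le_normalizer_center P₀))
    refine hasNormalPComplement_of_frobeniusCond fun Q hQ g hg hc => ?_
    rcases eq_or_ne Q ⊥ with rfl | hQ1
    · exact Subgroup.mem_centralizer_iff.2 fun y hy => by simp [Subgroup.mem_bot.1 hy]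
    have hQN : Q ≤ Subgroup.normalizer (Q : Set G) := Subgroup.le_normalizer
    have := frobeniusCond_of_hasNormalPComplement (hloc' _ Q Q hQ hQ1 hQ hQN rfl)
      (Q.subgroupOf _) (hQ.comap_of_injective _ (Subgroup.subtype_injective _)) ⟨g, hg⟩
      (by rw [Subgroup.normalizer_eq_top_iff.2 Subgroup.normal_in_normalizer]; trivial)
      (by rwa [← Subgroup.orderOf_coe])
    rw [Subgroup.mem_centralizer_iff]
    intro y hy
    exact congrArg Subtype.val (Subgroup.mem_centralizer_iff.1 this ⟨y, hQN hy⟩ hy)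
  -- `O_{p'}(G) = 1`
  have hO : Cfsg.pPrimeCore p G = ⊥ := by
    by_contra hO
    apply hno
    set N := Cfsg.pPrimeCore p G with hN
    haveI : N.Normal := Cfsg.pPrimeCore_normal p G
    have hNc : (Nat.card N).Coprime p := CfsgLib.PCore.pPrimeCore_coprime
    set f := QuotientGroup.mk' N with hf
    have hfs : Function.Surjective f := QuotientGroup.mk'_surjective N
    have hinj : Function.Injective (f.comp (P : Subgroup G).subtype) := by
      rw [injective_iff_map_eq_one]
      intro x hx
      exact Subtype.ext (eq_one_of_mem_pGroup_of_mem_coprime P.2 hNc x.2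
        ((QuotientGroup.eq_one_iff (x : G)).1 hx))
    have hJ : thompson p ((P : Subgroup G).map f) = (thompson p (P : Subgroup G)).map f := by
      have h1 := thompson_map (e := p) hinj (⊤ : Subgroup (P : Subgroup G))
      have h2 := thompson_map (e := p) (P : Subgroup G).subtype_injective (⊤ : Subgroup (P : Subgroup G))
      rw [← Subgroup.map_map, map_subtype_top, ← Subgroup.map_map, ← h2, map_subtype_top] at h1
      exact h1
    have hcard : Nat.card (G ⧸ N) < Nat.card G := by
      haveI : Nontrivial N := (Subgroup.nontrivial_iff_ne_bot N).2 hO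
      rw [Subgroup.card_eq_card_quotient_mul_card_subgroup N]
      exact lt_mul_of_one_lt_right Nat.card_pos Finite.one_lt_card
    have hq : Cfsg.HasNormalPComplement p (G ⧸ N) := by
      refine ih _ hcard _ rfl (P.mapSurjective hfs) ?_
      rw [Sylow.coe_mapSurjective]
      constructor
      · refine npc_mono (B := (Subgroup.normalizer (thompson p (P : Subgroup G) : Set G)).map f) ?_
          (hasNormalPComplement_of_surjective _ (MonoidHom.subgroupMap_surjective f _) hloc.1)
        intro y hy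
        obtain ⟨x, rfl⟩ := hfs y
        rw [hJ] at hy
        obtain ⟨m, hm, hmx⟩ := CfsgLib.PLocal.exists_mul_mem_normalizer hNc (P.2.to_le (thompson_le p _)) (x := x)
          fun z hz => by
            rw [map_mul, map_mul, map_inv]
            exact (Subgroup.mem_normalizer_iff.1 hy _).1 ⟨z, hz, rfl⟩
        exact ⟨m * x, hmx, by rw [map_mul, show f m = 1 from (QuotientGroup.eq_one_iff m).2 hm, one_mul]⟩
      · refine npc_mono (B := (Subgroup.centralizer (((P : Subgroup G) ⊓
          Subgroup.centralizer ((P : Subgroup G) : Set G) : Subgroup G) : Set G)).map f) ?_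
          (hasNormalPComplement_of_surjective _ (MonoidHom.subgroupMap_surjective f _) hloc.2)
        intro y hy
        obtain ⟨x, rfl⟩ := hfs y
        have hx : f x ∈ Subgroup.centralizer ((((P : Subgroup G) ⊓
            Subgroup.centralizer ((P : Subgroup G) : Set G)).map f : Subgroup (G ⧸ N)) : Set (G ⧸ N)) := by
          refine Subgroup.centralizer_le ?_ hy
          rintro _ ⟨z, hz, rfl⟩
          refine ⟨⟨z, hz.1, rfl⟩, Subgroup.mem_centralizer_iff.2 ?_⟩
          rintro _ ⟨w, hw, rfl⟩
          rw [← map_mul, ← map_mul, Subgroup.mem_centralizer_iff.1 hz.2 w hw]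
        obtain ⟨m, hm, hmx⟩ := exists_mul_mem_centralizer hNc P.2.to_inf_left hx
        exact ⟨m * x, hmx, by rw [map_mul, show f m = 1 from (QuotientGroup.eq_one_iff m).2 hm, one_mul]⟩
    rw [hasNormalPComplement_iff] at hq ⊢
    rw [← map_pResidual_of_surjective f hfs] at hq
    intro hd
    rw [← CfsgLib.Coprime.card_map_mul_inf_ker f (Cfsg.pResidual p G)] at hd
    rcases hp.out.dvd_mul.1 hd with h | h
    · exact hq h
    · rw [hf, QuotientGroup.ker_mk'] at h
      exact hp.out.coprime_iff_not_dvd.1 hNc.symm (h.trans (Subgroup.card_dvd_of_le inf_le_left))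
  -- `R < P`
  have hRP : R ≤ (P : Subgroup G) := CfsgLib.PCore.pCore_le_sylow P
  have hJR : ¬ thompson p (P : Subgroup G) ≤ R := by
    intro h
    apply hno
    refine npc_of_normalizer_top (K := thompson p (P : Subgroup G)) ?_ hloc.1
    rw [eq_top_iff, ← thompson_eq_of_le hRP h, ← Subgroup.normalizer_eq_top R]
    exact normalizer_le_normalizer_thompson p R
  have hRneP : R ≠ (P : Subgroup G) := fun e => hJR ((thompson_le p _).trans e.ge)
  -- `G / R`
  set f := QuotientGroup.mk' R with hf
  have hfs : Function.Surjective f := QuotientGroup.mk'_surjective R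
  have hOq : Cfsg.pCore p (G ⧸ R) = ⊥ := by
    have := CfsgLib.PCore.comap_pCore_quotient (N := R) hRp
    have h2 := congrArg (Subgroup.map f) this
    rwa [Subgroup.map_comap_eq_self_of_surjective hfs, ← hR, QuotientGroup.map_mk'_self] at h2
  set Pb := P.mapSurjective hfs with hPbdef
  have hPb : (Pb : Subgroup (G ⧸ R)) = (P : Subgroup G).map f := Sylow.coe_mapSurjective _ _
  have hPbne : (Pb : Subgroup (G ⧸ R)) ≠ ⊥ := by
    rw [hPb]
    intro e
    rw [Subgroup.map_eq_bot_iff, hf, QuotientGroup.ker_mk'] at e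
    exact hRneP (le_antisymm hRP e)
  have hcardq : Nat.card (G ⧸ R) < Nat.card G := by
    haveI : Nontrivial R := (Subgroup.nontrivial_iff_ne_bot R).2 hR1
    rw [Subgroup.card_eq_card_quotient_mul_card_subgroup R]
    exact lt_mul_of_one_lt_right Nat.card_pos Finite.one_lt_card
  have hoverq : ∀ X : Subgroup (G ⧸ R), (Pb : Subgroup (G ⧸ R)) ≤ X → X ≠ ⊤ →
      Cfsg.HasNormalPComplement p X := by
    intro X hX hXtop
    have hM : X.comap f ≠ ⊤ := fun e => hXtop (by
      rw [← Subgroup.map_comap_eq_self_of_surjective hfs X, e, Subgroup.map_top_of_surjective f hfs])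
    have hPM : (P : Subgroup G) ≤ X.comap f := by rw [← Subgroup.map_le_iff_le_comap, ← hPb]; exact hX
    rw [← Subgroup.map_comap_eq_self_of_surjective hfs X]
    exact hasNormalPComplement_of_surjective _ (MonoidHom.subgroupMap_surjective f _) (hover P _ hPM hM)
  have hnpcq : Cfsg.HasNormalPComplement p (G ⧸ R) := by
    refine ih _ hcardq _ rfl Pb ⟨?_, ?_⟩
    · refine hoverq _ (le_normalizer_thompson p _) fun e => thompson_ne_bot Pb.2 hPbne ?_
      rw [eq_bot_iff, ← hOq]
      exact CfsgLib.PCore.le_pCore (Subgroup.normalizer_eq_top_iff.1 e) (Pb.2.to_le (thompson_le p _))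
    · refine hoverq _ ?_ fun e => center_inf_ne_bot Pb.2 hPbne ?_
      · intro x hx
        exact Subgroup.mem_centralizer_iff.2 fun z hz =>
          (Subgroup.mem_centralizer_iff.1 hz.2 x hx).symm
      · rw [eq_bot_iff, ← hOq]
        refine CfsgLib.PCore.le_pCore ?_ Pb.2.to_inf_left
        refine ⟨fun z hz g => ?_⟩
        have h1 : g * z = z * g :=
          (Subgroup.mem_centralizer_iff.1 (e ▸ Subgroup.mem_top g) z hz).symm
        rwa [h1, mul_inv_cancel_right]
  set K := Cfsg.pResidual p (G ⧸ R) with hKdef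
  haveI hKn : K.Normal := pResidual_normal
  have hKc : (Nat.card K).Coprime p :=
    CfsgLib.PCore.coprime_of_not_dvd_card (hasNormalPComplement_iff.1 hnpcq)
  have hgen : (Pb : Subgroup (G ⧸ R)) ⊔ K = ⊤ := sylow_sup_pResidual Pb
  -- constraint
  have hsolv : Cfsg.IsPSolvable p G := by
    refine CfsgLib.PCore.isPSolvable_extension R (CfsgLib.PCore.isPSolvable_of_isPGroup hRp) ?_
    exact CfsgLib.PCore.isPSolvable_extension K (CfsgLib.PCore.isPSolvable_of_coprime hKc)
      (CfsgLib.PCore.isPSolvable_of_isPGroup (isPGroup_quotient_of_pResidual_le K le_rfl))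
  have hCR : Subgroup.centralizer (R : Set G) ≤ R := CfsgLib.PCore.centralizer_pCore_le hsolv hO
  -- `P` is a maximal subgroup
  have hmax : ∀ M : Subgroup G, (P : Subgroup G) ≤ M → M ≠ ⊤ → M = (P : Subgroup G) := by
    intro M hPM hMtop
    have hnpc := hover P M hPM hMtop
    haveI : (Cfsg.pResidual p M).Normal := pResidual_normal
    set L := (Cfsg.pResidual p M).map M.subtype with hL
    have hLc : (Nat.card L).Coprime p := by
      rw [hL, Subgroup.card_map_of_injective M.subtype_injective]
      exact CfsgLib.PCore.coprime_of_not_dvd_card (hasNormalPComplement_iff.1 hnpc)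
    have hcomm : ⁅R, L⁆ = ⊥ := by
      rw [eq_bot_iff, ← CfsgLib.PCore.inf_eq_bot_of_isPGroup_coprime hRp hLc]
      refine le_inf (Subgroup.commutator_le_left R L) (Subgroup.commutator_le.2 ?_)
      rintro r hr _ ⟨l, hl, rfl⟩
      refine ⟨⟨r, hPM (hRP hr)⟩ * l * ⟨r, hPM (hRP hr)⟩⁻¹ * l⁻¹,
        mul_mem ((inferInstance : (Cfsg.pResidual p M).Normal).conj_mem l hl _) (inv_mem hl), ?_⟩
      simp [commutatorElement_def]
    have hLR : L ≤ R := by
      rw [Subgroup.commutator_comm, Subgroup.commutator_eq_bot_iff_le_centralizer] at hcomm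
      exact hcomm.trans hCR
    have hL0 : Cfsg.pResidual p M = ⊥ := by
      rw [← Subgroup.map_eq_bot_iff_of_injective _ M.subtype_injective, ← hL]
      exact CfsgLib.PCore.eq_bot_of_isPGroup_coprime (hRp.to_le hLR) hLc
    exact P.3 (isPGroup_of_pResidual_eq_bot hL0) hPM
  have hmaxq : ∀ X : Subgroup (G ⧸ R), (Pb : Subgroup (G ⧸ R)) ≤ X → X ≠ ⊤ →
      X = (Pb : Subgroup (G ⧸ R)) := by
    intro X hX hXtop
    have hM : X.comap f ≠ ⊤ := fun e => hXtop (by
      rw [← Subgroup.map_comap_eq_self_of_surjective hfs X, e, Subgroup.map_top_of_surjective f hfs])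
    have hPM : (P : Subgroup G) ≤ X.comap f := by rw [← Subgroup.map_le_iff_le_comap, ← hPb]; exact hX
    rw [← Subgroup.map_comap_eq_self_of_surjective hfs X, hmax _ hPM hM, hPb]
  -- `K` is abelian
  have hK1 : K ≠ ⊥ := by
    intro e
    apply hno
    rw [hasNormalPComplement_iff]
    intro hd
    have : IsPGroup p G := by
      refine IsPGroup.iff_card.2 ?_
      obtain ⟨a, ha⟩ := IsPGroup.iff_card.1 (isPGroup_of_pResidual_eq_bot e)
      obtain ⟨c, hc⟩ := IsPGroup.iff_card.1 hRp
      exact ⟨a + c, by rw [Subgroup.card_eq_card_quotient_mul_card_subgroup R, ha, hc, pow_add]⟩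
    have h1 : Cfsg.pResidual p G = ⊥ := by
      exact le_bot_iff.1 (pResidual_le_of_isPGroup_quotient ⊥ (this.to_quotient _))
    rw [h1, Subgroup.card_bot] at hd
    exact hp.out.ne_one (Nat.dvd_one.1 hd)
  have hKab : IsMulCommutative K := by
    set q := (Nat.card K).minFac with hq
    have hK1' : Nat.card K ≠ 1 := fun e => hK1 (Subgroup.card_eq_one.1 e)
    have hqprime : q.Prime := Nat.minFac_prime hK1'
    haveI := Fact.mk hqprime
    have hcop : (Nat.card (Pb : Subgroup (G ⧸ R))).Coprime (Nat.card K) := by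
      obtain ⟨j, hj⟩ := IsPGroup.iff_card.1 Pb.2
      rw [hj]; exact Nat.Coprime.pow_left j hKc.symm
    obtain ⟨Q₀, hQ₀⟩ := CfsgLib.Coprime.exists_invariant_sylow (Pb : Subgroup (G ⧸ R)) K
      (by rw [Subgroup.normalizer_eq_top K]; exact le_top) hcop
      (Or.inl (by haveI := Pb.2.isNilpotent; infer_instance)) q
    set Q := (Q₀ : Subgroup K).map K.subtype with hQ
    have hQ1 : Q ≠ ⊥ := by
      rw [hQ, Ne, Subgroup.map_eq_bot_iff_of_injective _ K.subtype_injective]
      intro e
      have := Q₀.dvd_card_of_dvd_card (Nat.minFac_dvd _)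
      rw [e, Subgroup.card_bot] at this
      exact hqprime.ne_one (Nat.dvd_one.1 this)
    set Z := Q ⊓ Subgroup.centralizer (Q : Set (G ⧸ R)) with hZ
    have hZ1 : Z ≠ ⊥ := center_inf_ne_bot (Q₀.2.map _) hQ1
    have hZK : Z ≤ K := inf_le_left.trans (Subgroup.map_subtype_le _)
    have hPZ : (Pb : Subgroup (G ⧸ R)) ≤ Subgroup.normalizer (Z : Set (G ⧸ R)) :=
      hQ₀.trans (le_normalizer_center Q)
    have htop : (Pb : Subgroup (G ⧸ R)) ⊔ Z = ⊤ := by
      by_contra hne
      have hX := hmaxq _ le_sup_left hne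
      apply hZ1
      rw [eq_bot_iff, ← CfsgLib.PCore.inf_eq_bot_of_isPGroup_coprime Pb.2 hKc]
      exact le_inf (hX ▸ le_sup_right) hZK
    have hKZ : K = Z := by
      refine (Subgroup.eq_of_le_of_card_ge hZK ?_).symm
      have h1 := CfsgLib.Coprime.card_sup_dvd hPZ
      rw [htop, Subgroup.card_top] at h1
      have h2 : Nat.card (G ⧸ R) = Nat.card (Pb : Subgroup (G ⧸ R)) * Nat.card K := by
        rw [← CfsgLib.Coprime.card_sup_of_disjoint (H := (Pb : Subgroup (G ⧸ R))) (N := K)
          (by rw [Subgroup.normalizer_eq_top K]; exact le_top)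
          (by rw [inf_comm]; exact CfsgLib.PCore.inf_eq_bot_of_isPGroup_coprime Pb.2 hKc), hgen,
          Subgroup.card_top]
      rw [h2] at h1
      exact Nat.le_of_dvd Nat.card_pos (Nat.dvd_of_mul_dvd_mul_left Nat.card_pos h1)
    rw [hKZ]
    exact isMulCommutative_of_forall fun a ha b hb => Subgroup.mem_centralizer_iff.1 hb.2 a ha.1
  -- `C_G(Z(P)) = P`
  set ZP := (P : Subgroup G) ⊓ Subgroup.centralizer ((P : Subgroup G) : Set G) with hZP
  have hCZP : Subgroup.centralizer (ZP : Set G) = (P : Subgroup G) := by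
    refine hmax _ (fun x hx => Subgroup.mem_centralizer_iff.2 fun z hz =>
      (Subgroup.mem_centralizer_iff.1 hz.2 x hx).symm) fun e => hno ?_
    have h2 := hloc.2
    rw [← hZP, e] at h2
    exact hasNormalPComplement_of_mulEquiv Subgroup.topEquiv h2
  -- `V`
  set ZR := R ⊓ Subgroup.centralizer (R : Set G) with hZR
  haveI : IsMulCommutative ZR := isMulCommutative_of_forall fun a ha b hb =>
    Subgroup.mem_centralizer_iff.1 hb.2 a ha.1
  set V := Cfsg.omegaOne p ZR with hV
  haveI hVn : V.Normal := by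
    rw [← Subgroup.normalizer_eq_top_iff, eq_top_iff, ← Subgroup.normalizer_eq_top ZR]
    exact normalizer_le_normalizer_omegaOne p ZR
  have hVe : Cfsg.IsElementaryAbelian p V := omegaOne_elemAb p ZR
  have hVR : V ≤ R := (omegaOne_le p ZR).trans inf_le_left
  have hRC : R = Subgroup.centralizer (V : Set G) := by
    refine le_antisymm (fun r hr => Subgroup.mem_centralizer_iff.2 fun v hv =>
      (Subgroup.mem_centralizer_iff.1 ((omegaOne_le p ZR hv).2) r hr).symm) ?_
    have key : ∀ y ∈ Subgroup.centralizer (V : Set G), (orderOf y).Coprime p → y = 1 := by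
      intro y hy hc
      have h1 := CfsgLib.OddOrder41.fixes_of_fixes_exponent_p hp2 y hc _ ZR rfl hRp.to_inf_left
        (fun x hx => (inferInstance : ZR.Normal).conj_mem x hx y)
        (fun x hx hxp => (Subgroup.mem_centralizer_iff.1 hy x (mem_omegaOne hx hxp)).symm)
      have h2 : y ∈ (P : Subgroup G) := by
        rw [← hCZP, Subgroup.mem_centralizer_iff]
        intro z hz
        have hzC : z ∈ Subgroup.centralizer (R : Set G) :=
          Subgroup.centralizer_le hRP hz.2
        exact (h1 z ⟨hCR hzC, hzC⟩).symm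
      obtain ⟨j, hj⟩ := P.2 ⟨y, h2⟩
      exact orderOf_eq_one_iff.1 (Nat.eq_one_of_dvd_coprimes (hc.pow_right j) dvd_rfl
        (orderOf_dvd_of_pow_eq_one (congrArg Subtype.val hj)))
    refine CfsgLib.PCore.le_pCore inferInstance ?_
    intro y
    obtain ⟨m, k, hndvd, hord⟩ :=
      Nat.exists_eq_pow_mul_and_not_dvd (orderOf_pos (y : G)).ne' p hp.out.ne_one
    refine ⟨m, Subtype.ext (key _ (Subgroup.pow_mem _ y.2 _) ?_)⟩
    rw [Subgroup.coe_pow, orderOf_pow, hord, Nat.gcd_mul_right_left, Nat.mul_div_cancel_left _ (pow_pos hp.out.pos m)]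
    exact CfsgLib.PCore.coprime_of_not_dvd_card hndvd
  -- a quadratic element
  obtain ⟨A, hA, hAR⟩ : ∃ A, IsMaxElemIn p (P : Subgroup G) A ∧ ¬ A ≤ R := by
    by_contra! hall
    exact hJR (thompson_le_iff.2 hall)
  obtain ⟨b, hb, -, hbC, hbq⟩ := CfsgLib.Transfer.ThompsonFactor.exists_quadratic hVe
    (hVR.trans hRP) hA (hRC ▸ hAR)
  have aux : ∀ (R' : Subgroup G) [R'.Normal], R' = Subgroup.centralizer (V : Set G) →
      Cfsg.pCore p (G ⧸ R') = ⊥ → ∀ K' : Subgroup (G ⧸ R'), K'.Normal → IsMulCommutative K' →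
      (Nat.card K').Coprime p → (P : Subgroup G).map (QuotientGroup.mk' R') ⊔ K' = ⊤ → False := by
    intro R' _ hR'
    subst hR'
    intro hO' K' hK'n hK'a hK'c hgen'
    haveI := hK'n
    haveI := hK'a
    exact hbC (final_step hp2 P V hVe hO' K' hK'c hgen' hb hbq)
  exact aux R hRC hOq K hKn hKab hKc (hPb ▸ hgen)

end CfsgLib.Transfer.ThompsonNPC
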