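import Mathlib.Tactic.NoncommRing
import Mathlib.Algebra.Ring.Commute
import Mathlib.Algebra.Module.Basic
import Mathlib.Tactic.Abel

/-!
Elementary ring lemmas on a unipotent element `1 + N` with `N * N = 0` and a semisimple element `x`:
if suitable conjugates of `x` by powers of `1 + N` commute with `x` (up to signs), then `N`
commutes with `x`.
-/

set_option autoImplicit false

namespace CfsgLib.Transfer.QuadraticRing

variable {R : Type*} [Ring R]

/-- The derivation `N * x - x * N`. -/
def der (N x : R) : R := N * x - x * N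

theorem mul_pow_succ {N x : R} (h : x * der N x = der N x * x) (k : ℕ) :
    N * x ^ (k + 1) = x ^ (k + 1) * N + ((k + 1 : ℕ) : R) * (x ^ k * der N x) := by
  induction k with
  | zero => simp [der]
  | succ k ih =>
    have hd : N * x = x * N + der N x := by simp [der]
    calc N * x ^ (k + 1 + 1) = N * x ^ (k + 1) * x := by rw [pow_succ x (k + 1), mul_assoc]
      _ = x ^ (k + 1) * (N * x) + ((k + 1 : ℕ) : R) * (x ^ k * (der N x * x)) := by
          rw [ih, add_mul]; simp only [mul_assoc]
      _ = x ^ (k + 1) * (x * N) + x ^ (k + 1) * der N x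
            + ((k + 1 : ℕ) : R) * (x ^ k * (x * der N x)) := by rw [hd, mul_add, ← h]
      _ = x ^ (k + 1 + 1) * N
            + (x ^ (k + 1) * der N x + ((k + 1 : ℕ) : R) * (x ^ (k + 1) * der N x)) := by
          rw [add_assoc, ← mul_assoc _ x N, ← pow_succ x (k + 1), ← mul_assoc (x ^ k) x,
            ← pow_succ x k]
      _ = _ := by rw [Nat.cast_succ (k + 1), add_mul, one_mul]; abel

/-- A semisimple element has no nontrivial "nilpotent" derivative. -/
theorem der_eq_zero {N x : R} {m : ℕ} (hm : IsUnit ((m : ℕ) : R)) (hm0 : 0 < m) (hx : x ^ m = 1)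
    (h : x * der N x = der N x * x) : der N x = 0 := by
  obtain ⟨k, rfl⟩ : ∃ k, m = k + 1 := ⟨m - 1, by omega⟩
  have h1 := mul_pow_succ h k
  rw [hx, mul_one, one_mul, left_eq_add] at h1
  have h2 : x ^ k * der N x = 0 := hm.mul_right_eq_zero.1 h1
  calc der N x = x * (x ^ k * der N x) := by rw [← mul_assoc, ← pow_succ', hx, one_mul]
    _ = 0 := by rw [h2, mul_zero]

/-- The conjugate of `x` by `1 + i * N`. -/
def conj (N x : R) (i : ℤ) : R := (1 + i • N) * x * (1 - i • N)

theorem conj_eq {N : R} (x : R) (i : ℤ) :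
    conj N x i = x + i • der N x - (i * i) • (N * x * N) := by
  simp only [conj, der, add_mul, one_mul, mul_sub, mul_one, smul_mul_assoc, mul_smul_comm, smul_sub,
    mul_smul, smul_add, mul_assoc]
  abel

/-- If `x` commutes with two conjugates, it commutes with `N`. -/
theorem commute_of_conj_commute {N x : R} (h2 : IsUnit (2 : R)) {m : ℕ}
    (hm : IsUnit ((m : ℕ) : R)) (hm0 : 0 < m) (hx : x ^ m = 1)
    (h₁ : x * conj N x 1 = conj N x 1 * x) (h₂ : x * conj N x 2 = conj N x 2 * x) :
    N * x = x * N := by
  have hD : x * der N x = der N x * x := by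
    set D := der N x with hDdef
    set E := N * x * N with hEdef
    rw [conj_eq, ← hDdef, ← hEdef] at h₁ h₂
    have e1 : (x * D - D * x) - (x * E - E * x) = 0 := by
      rw [← sub_eq_zero] at h₁
      rw [← h₁]; noncomm_ring
    have e2 : 2 * (x * D - D * x) - 4 * (x * E - E * x) = 0 := by
      rw [← sub_eq_zero] at h₂
      rw [← h₂, zsmul_eq_mul, zsmul_eq_mul]; push_cast; noncomm_ring
    have e3 : 2 * (x * D - D * x) = 0 := by
      have e4 : 2 * (x * D - D * x) =
          4 * ((x * D - D * x) - (x * E - E * x)) -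
            (2 * (x * D - D * x) - 4 * (x * E - E * x)) := by noncomm_ring
      rw [e4, e1, e2, mul_zero, sub_zero]
    exact sub_eq_zero.1 (h2.mul_right_eq_zero.1 e3)
  exact sub_eq_zero.1 (der_eq_zero hm hm0 hx hD)

/-- If `x` commutes with its conjugates up to central involutory factors, it commutes with `N`
(no prime divisor `2` or `3` of the characteristic). -/
theorem commute_of_conj_commute_signs {N x : R} (hN : N * N = 0) (h2 : IsUnit (2 : R))
    (h3 : IsUnit (3 : R)) {m : ℕ} (hm : IsUnit ((m : ℕ) : R)) (hm0 : 0 < m) (hx : x ^ m = 1)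
    (hsign : ∀ i : ℤ, i = 1 ∨ i = 2 → ∃ c : R, c * c = 1 ∧ c * x = x * c ∧ c * N = N * c ∧
      x * conj N x i = c * conj N x i * x ∧ x * conj N x (-i) = c * conj N x (-i) * x) :
    N * x = x * N := by
  set D := der N x with hDdef
  set E := N * x * N with hEdef
  set S := x * E + E * x with hSdef
  have h4 : IsUnit (4 : R) := by
    have := h2.mul h2
    norm_num at this
    exact this
  have key : ∀ i : ℤ, i = 1 ∨ i = 2 → (x * x) * (2 * D) = (i * i) • (S * D) := by
    intro i hi
    obtain ⟨c, hc, hcx, hcN, hp, hm'⟩ := hsign i hi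
    rw [conj_eq, ← hDdef, ← hEdef] at hp hm'
    rw [← sub_eq_zero] at hp hm'
    set P := x * D - c * D * x with hPdef
    set Q := x * E - c * E * x with hQdef
    have ep : x * x - c * x * x + i • P - (i * i) • Q = 0 := by
      rw [← hp, hPdef, hQdef]
      simp only [mul_add, add_mul, mul_sub, sub_mul, mul_smul_comm, smul_mul_assoc, smul_sub]
      abel
    have em : x * x - c * x * x - i • P - (i * i) • Q = 0 := by
      rw [← hm', hPdef, hQdef]
      simp only [mul_add, add_mul, mul_sub, sub_mul, mul_smul_comm, smul_mul_assoc, smul_sub,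
        neg_smul, neg_mul_neg, smul_neg, sub_neg_eq_add, neg_mul, mul_neg]
      abel
    have hP : P = 0 := by
      have h := sub_eq_zero.2 (ep.trans em.symm)
      have e : (i + i) • P = 0 := by
        rw [← h, add_smul]; abel
      rcases hi with rfl | rfl
      · rw [zsmul_eq_mul] at e; norm_num at e; exact h2.mul_right_eq_zero.1 e
      · rw [zsmul_eq_mul] at e; norm_num at e; exact h4.mul_right_eq_zero.1 e
    have hcc : (1 + c) * c = 1 + c := by rw [add_mul, one_mul, hc, add_comm]
    have h1x : (1 + c) * x = x * (1 + c) := by rw [add_mul, mul_add, hcx, one_mul, mul_one]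
    have hD' : (1 + c) * D = 0 := by
      have e1 : der ((1 + c) * N) x = (1 + c) * D := by
        rw [hDdef, der, der, mul_sub, mul_assoc, ← mul_assoc x, ← h1x, mul_assoc]
      rw [← e1]
      refine der_eq_zero hm hm0 hx ?_
      rw [e1, ← sub_eq_zero]
      calc x * ((1 + c) * D) - (1 + c) * D * x
          = (1 + c) * x * D - (1 + c) * c * D * x := by rw [hcc, ← mul_assoc, h1x]
        _ = (1 + c) * P := by rw [hPdef, mul_sub]; simp only [mul_assoc]
        _ = 0 := by rw [hP, mul_zero]
    have hcD : c * D = -D := by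
      rw [add_mul, one_mul, add_comm] at hD'
      exact eq_neg_of_add_eq_zero_left hD'
    have hE' : E = D * N := by
      rw [hEdef, hDdef, der, sub_mul, mul_assoc x N N, hN, mul_zero, sub_zero]
    have hcE : c * E = -E := by rw [hE', ← mul_assoc, hcD, neg_mul]
    have hQ : Q = S := by rw [hQdef, hcE, hSdef, neg_mul, sub_neg_eq_add]
    have e5 : (x * x - c * x * x) * D = (i * i) • (S * D) := by
      rw [hP, smul_zero, add_zero, sub_eq_zero, hQ] at ep
      rw [ep, smul_mul_assoc]
    rw [← e5, sub_mul]
    have e6 : c * x * x * D = x * x * (c * D) := by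
      rw [hcx, mul_assoc x c x, hcx]; simp only [mul_assoc]
    rw [e6, hcD, mul_neg, sub_neg_eq_add, two_mul, mul_add]
  have k1 := key 1 (Or.inl rfl)
  have k2 := key 2 (Or.inr rfl)
  rw [one_mul, one_smul] at k1
  rw [k1] at k2
  have hSD : S * D = 0 := by
    have e : (3 : R) * (S * D) = (2 * 2 : ℤ) • (S * D) - S * D := by
      rw [zsmul_eq_mul]; push_cast; noncomm_ring
    rw [← k2, sub_self] at e
    exact h3.mul_right_eq_zero.1 e
  rw [hSD] at k1
  have hxu : IsUnit x := IsUnit.of_pow_eq_one hx hm0.ne'
  have := h2.mul_right_eq_zero.1 ((hxu.mul hxu).mul_right_eq_zero.1 k1)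
  exact sub_eq_zero.1 this

end CfsgLib.Transfer.QuadraticRing
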