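import Cfsg.Agent.Lib.Transfer.QuadraticAction
import Cfsg.Agent.Lib.PLocal5.MaxOffender
import Cfsg.Agent.Lib.PLocal.StableBasic
import Cfsg.Agent.Lib.Blocks.DualHallHigman
import Cfsg.Agent.Lib.Coprime.Commutator

/-!
Thompson's factorization `G = N_G(J(P)) C_G(Ω₁ Z(P))` for solvable groups, `p` odd, and the quadratic
element supplied by an elementary abelian subgroup of largest order moving a normal `V`.
-/

set_option autoImplicit false

namespace CfsgLib.Transfer.ThompsonFactor

open CfsgLib.PLocal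
open scoped commutatorElement

universe u

variable {G : Type u} [Group G] [Finite G] {p : ℕ} [hp : Fact p.Prime]

theorem le_of_forall_exists_sylow_le {A C : Subgroup G}
    (h : ∀ (q : ℕ), q.Prime → ∃ Q : Sylow q A, (Q : Subgroup A).map A.subtype ≤ C) : A ≤ C := by
  have hdvd : Nat.card A ∣ Nat.card (A ⊓ C : Subgroup G) := by
    rw [← Nat.factorization_le_iff_dvd Nat.card_pos.ne' Nat.card_pos.ne']
    intro q
    by_cases hq : q.Prime
    · haveI := Fact.mk hq
      obtain ⟨Q, hQ⟩ := h q hq
      have h1 : q ^ (Nat.card A).factorization q ∣ Nat.card (A ⊓ C : Subgroup G) := by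
        rw [← Q.card_eq_multiplicity, ← Subgroup.card_subtype A]
        exact Subgroup.card_dvd_of_le (le_inf (Subgroup.map_subtype_le _) hQ)
      exact (hq.pow_dvd_iff_le_factorization Nat.card_pos.ne').1 h1
    · simp [Nat.factorization_eq_zero_of_not_prime _ hq]
  have he : A ⊓ C = A :=
    Subgroup.eq_of_le_of_card_ge inf_le_left (Nat.le_of_dvd Nat.card_pos hdvd)
  exact he ▸ inf_le_right

/-- If a maximal elementary abelian subgroup of `P` moves `V`, some element of order `p` of `P`
moves `V` quadratically. -/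
theorem exists_quadratic {P A V : Subgroup G} [V.Normal] (hV : Cfsg.IsElementaryAbelian p V)
    (hVP : V ≤ P) (hA : IsMaxElemIn p P A) (hAV : ¬ A ≤ Subgroup.centralizer (V : Set G)) :
    ∃ b ∈ P, b ^ p = 1 ∧ b ∉ Subgroup.centralizer (V : Set G) ∧
      ∀ v ∈ V, b * ⁅v, b⁆ = ⁅v, b⁆ * b := by
  obtain ⟨A', hA', rfl⟩ := (image_maxElementaryAbelianSubgroups p P).ge hA
  set V' := V.subgroupOf P with hV'
  have hVm : V'.map P.subtype = V := Subgroup.map_subgroupOf_eq_of_le hVP
  have hVe : Cfsg.IsElementaryAbelian p V' :=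
    (elemAb_map_iff P.subtype_injective).1 (hVm.symm ▸ hV)
  have hne : ⁅V', A'⁆ ≠ ⊥ := by
    intro h
    apply hAV
    have h' := congrArg (Subgroup.map P.subtype) h
    rw [Subgroup.map_commutator, hVm, Subgroup.map_bot, Subgroup.commutator_comm] at h'
    exact Subgroup.commutator_eq_bot_iff_le_centralizer.1 h'
  obtain ⟨hBmax, hq, hB⟩ := CfsgLib.MaxOffender.replacement hVe hA'
  set B := ⁅V', A'⁆ ⊔ (A' ⊓ Subgroup.centralizer ((⁅V', A'⁆ : Subgroup P) : Set P)) with hBdef
  have hB' := hB hne
  rw [Ne, Subgroup.commutator_comm, Subgroup.commutator_eq_bot_iff_le_centralizer] at hB'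
  obtain ⟨b, hbB, hbc⟩ := SetLike.not_le_iff_exists.1 hB'
  refine ⟨b, b.2, ?_, ?_, ?_⟩
  · have := congrArg Subtype.val (hBmax.1.2 b hbB)
    simpa using this
  · intro h
    refine hbc (Subgroup.mem_centralizer_iff.2 fun v hv => Subtype.ext ?_)
    exact Subgroup.mem_centralizer_iff.1 h (v : G) hv
  · intro v hv
    exact congrArg Subtype.val
      (CfsgLib.Quadratic.quadratic_commute hq (v := ⟨v, hVP hv⟩) (show _ ∈ V' from hv) hbB hbB)

/-- In a solvable group, with `p` odd and abelian Sylow `2`-subgroups when `p = 3`, the Thompson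
subgroup centralises a normal elementary abelian `V` with `O_p (G / C_G(V)) = 1`. -/
theorem thompson_le_centralizer [Group.IsSolvable G] (hp2 : p ≠ 2)
    (h3 : p = 3 → ∀ T : Sylow 2 G, IsMulCommutative T) (V : Subgroup G) [V.Normal]
    (hV : Cfsg.IsElementaryAbelian p V) (P : Subgroup G) (hVP : V ≤ P)
    (hD : Cfsg.pCore p (G ⧸ Subgroup.centralizer (V : Set G)) = ⊥) :
    thompson p P ≤ Subgroup.centralizer (V : Set G) := by
  rw [thompson_le_iff]
  intro A hA
  by_contra hAV
  obtain ⟨b, -, hbp, hbC, hbq⟩ := exists_quadratic hV hVP hA hAV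
  set C := Subgroup.centralizer (V : Set G) with hC
  obtain ⟨W, _, _, _, ρ, hρ, hρq⟩ :=
    CfsgLib.Transfer.QuadraticAction.exists_action_quotient (p := p) V hV
  set f := QuotientGroup.mk' C with hf
  have hN := hρq b hbq
  set K := Cfsg.pPrimeCore p (G ⧸ C) with hK
  have hcK : (Nat.card K).Coprime p := CfsgLib.PCore.pPrimeCore_coprime
  have hbp' : f b ^ p = 1 := by rw [← map_pow, hbp, map_one]
  have hzp : IsPGroup p (Subgroup.zpowers (f b)) := by
    obtain ⟨j, -, hj⟩ := (Nat.dvd_prime_pow hp.out).1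
      (show orderOf (f b) ∣ p ^ 1 from orderOf_dvd_of_pow_eq_one (by rwa [pow_one]))
    exact IsPGroup.of_card (n := j) (by rw [Nat.card_zpowers, hj])
  have hbK : Subgroup.zpowers (f b) ≤ Subgroup.normalizer (K : Set (G ⧸ C)) := by
    rw [Subgroup.normalizer_eq_top K]; exact le_top
  have hcop : (Nat.card (Subgroup.zpowers (f b))).Coprime (Nat.card K) := by
    obtain ⟨j, hj⟩ := IsPGroup.iff_card.1 hzp
    rw [hj]; exact Nat.Coprime.pow_left j hcK.symm
  have hcen : K ≤ Subgroup.centralizer (Subgroup.zpowers (f b) : Set (G ⧸ C)) := by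
    refine le_of_forall_exists_sylow_le fun q hq => ?_
    haveI := Fact.mk hq
    by_cases hqp : q = p
    · subst hqp
      let R : Sylow q K := default
      refine ⟨R, ?_⟩
      have h1 : IsPGroup q ((R : Subgroup K).map K.subtype) := R.2.map _
      rw [CfsgLib.PCore.eq_bot_of_isPGroup_coprime h1
        (hcK.coprime_dvd_left (Subgroup.card_dvd_of_le (Subgroup.map_subtype_le _)))]
      exact bot_le
    obtain ⟨S, hS⟩ := CfsgLib.Coprime.exists_invariant_sylow _ K hbK hcop
      (Or.inl inferInstance) q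
    -- an invariant Sylow subgroup is centralised, hence so is `R`
    set Q := (S : Subgroup K).map K.subtype with hQ
    have hQq : IsPGroup q Q := S.2.map _
    have hcase : q ≠ 2 ∨ p ≠ 3 ∨ IsMulCommutative Q := by
      by_cases hq2 : q = 2
      swap
      · exact Or.inl hq2
      by_cases hp3 : p = 3
      swap
      · exact Or.inr (Or.inl hp3)
      subst hq2
      obtain ⟨T', hT'⟩ := hQq.exists_le_sylow
      obtain ⟨T, rfl⟩ := Sylow.mapSurjective_surjective (QuotientGroup.mk'_surjective C) 2 T'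
      haveI := h3 hp3 T
      refine Or.inr (Or.inr (isMulCommutative_of_forall fun x hx y hy => ?_))
      have hx' := hT' hx
      have hy' := hT' hy
      rw [Sylow.coe_mapSurjective] at hx' hy'
      obtain ⟨x₀, hx₀, rfl⟩ := hx'
      obtain ⟨y₀, hy₀, rfl⟩ := hy'
      rw [← map_mul, ← map_mul, setLike_mul_comm hx₀ hy₀]
    have hQc : Q ≤ Subgroup.centralizer (Subgroup.zpowers (f b) : Set (G ⧸ C)) := by
      intro x hx
      rw [CfsgLib.Quadratic.mem_centralizer_zpowers]
      apply hρ
      rw [map_mul, map_mul]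
      exact (CfsgLib.Transfer.QuadraticAction.commute_of_isPGroup ρ hp2 hN
        (k := 1) (by rwa [pow_one]) hqp hQq (hS (Subgroup.mem_zpowers _)) hcase hx).eq
    exact ⟨S, hQc⟩
  have hbK' : f b ∈ K := by
    refine CfsgLib.DualHallHigman.centralizer_pPrimeCore_le CfsgLib.PCore.isPSolvable_of_isSolvable hD ?_
    rw [Subgroup.mem_centralizer_iff]
    intro x hx
    exact (CfsgLib.Quadratic.mem_centralizer_zpowers.1 (hcen hx)).symm
  have hb1 : Subgroup.zpowers (f b) = ⊥ :=
    CfsgLib.PCore.eq_bot_of_isPGroup_coprime hzp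
      (hcK.coprime_dvd_left (Subgroup.card_dvd_of_le (Subgroup.zpowers_le.2 hbK')))
  rw [Subgroup.zpowers_eq_bot] at hb1
  exact hbC ((QuotientGroup.eq_one_iff b).1 hb1)

/-- Thompson's factorization for a solvable group with `O_{p'}(G) = 1`. -/
theorem factorization [Group.IsSolvable G] (hp2 : p ≠ 2)
    (h3 : p = 3 → ∀ T : Sylow 2 G, IsMulCommutative T) (hF : Cfsg.pPrimeCore p G = ⊥)
    (P : Sylow p G) (g : G) :
    ∃ a ∈ Subgroup.normalizer (thompson p (P : Subgroup G) : Set G),
      ∃ c ∈ Subgroup.centralizer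
          {x : G | x ∈ (P : Subgroup G) ∧ (∀ y ∈ (P : Subgroup G), x * y = y * x) ∧ x ^ p = 1},
        g = a * c := by
  set X := {x : G | x ∈ (P : Subgroup G) ∧ (∀ y ∈ (P : Subgroup G), x * y = y * x) ∧ x ^ p = 1}
    with hX
  set R := Cfsg.pCore p G with hR
  have hRn : R.Normal := Cfsg.pCore_normal p G
  have hRP : R ≤ (P : Subgroup G) := CfsgLib.PCore.pCore_le_sylow P
  have hCR : Subgroup.centralizer (R : Set G) ≤ R :=
    CfsgLib.PCore.centralizer_pCore_le CfsgLib.PCore.isPSolvable_of_isSolvable hF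
  set Z := R ⊓ Subgroup.centralizer (R : Set G) with hZ
  haveI : IsMulCommutative Z := isMulCommutative_of_forall fun a ha b hb =>
    Subgroup.mem_centralizer_iff.1 hb.2 a ha.1
  set W := Cfsg.omegaOne p Z with hW
  haveI hWn : W.Normal := by
    rw [← Subgroup.normalizer_eq_top_iff, eq_top_iff, ← Subgroup.normalizer_eq_top Z]
    exact normalizer_le_normalizer_omegaOne p Z
  have hXW : X ⊆ W := by
    rintro x ⟨hxP, hxc, hxp⟩
    have hxC : x ∈ Subgroup.centralizer (R : Set G) :=
      Subgroup.mem_centralizer_iff.2 fun y hy => (hxc y (hRP hy)).symm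
    exact mem_omegaOne ⟨hCR hxC, hxC⟩ hxp
  set V := Subgroup.normalClosure X with hVdef
  have hVW : V ≤ W := Subgroup.normalClosure_le_normal hXW
  have hV : Cfsg.IsElementaryAbelian p V := elemAb_of_le (omegaOne_elemAb p Z) hVW
  have hVP : V ≤ (P : Subgroup G) := hVW.trans ((omegaOne_le p Z).trans (inf_le_left.trans hRP))
  set C := Subgroup.centralizer (V : Set G) with hC
  have hCX : C ≤ Subgroup.centralizer X :=
    Subgroup.centralizer_le Subgroup.subset_normalClosure
  have hD : stabD p V ≤ C := by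
    intro x hx
    rw [hC, hVdef, Subgroup.normalClosure, Subgroup.centralizer_closure, Subgroup.mem_centralizer_iff]
    intro y hy
    obtain ⟨z, hz, hzy⟩ := Group.mem_conjugatesOfSet_iff.1 hy
    obtain ⟨w, rfl⟩ := isConj_iff.1 hzy
    have hle : stabD p V ≤ Subgroup.centralizer {w * z * w⁻¹} := by
      refine (stabD_le_sup V (w • P)).trans (sup_le ?_ ?_)
      · exact Subgroup.centralizer_le (Set.singleton_subset_iff.2 (Subgroup.subset_closure hy))
      · rintro u ⟨hu, -⟩
        obtain ⟨u₀, hu₀, rfl⟩ := hu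
        rw [Subgroup.mem_centralizer_singleton_iff]
        show (MulAut.conj w) u₀ * (MulAut.conj w) z = (MulAut.conj w) z * (MulAut.conj w) u₀
        rw [← map_mul, ← map_mul, hz.2.1 u₀ hu₀]
    exact (Subgroup.mem_centralizer_singleton_iff.1 (hle hx)).symm
  have hDbot : Cfsg.pCore p (G ⧸ C) = ⊥ := by
    rw [eq_bot_iff]
    intro y hy
    obtain ⟨x, rfl⟩ := QuotientGroup.mk'_surjective C y
    exact Subgroup.mem_bot.2 ((QuotientGroup.eq_one_iff x).2 (hD hy))
  have hJC : thompson p (P : Subgroup G) ≤ C :=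
    thompson_le_centralizer hp2 h3 V hV (P : Subgroup G) hVP hDbot
  have hQidx : ¬ p ∣ ((((P : Subgroup G) ⊓ C).subgroupOf C)).index :=
    CfsgLib.Techniques.not_dvd_relIndex_inf_normal P C
  let Q : Sylow p C :=
    ((P.2.to_inf_left (K := C)).comap_of_injective C.subtype C.subtype_injective).toSylow hQidx
  have hQm : (Q : Subgroup C).map C.subtype = (P : Subgroup G) ⊓ C :=
    Subgroup.map_subgroupOf_eq_of_le inf_le_right
  have htop := Sylow.normalizer_sup_eq_top Q
  rw [hQm] at htop
  have hle : Subgroup.normalizer (((P : Subgroup G) ⊓ C : Subgroup G) : Set G) ≤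
      Subgroup.normalizer (thompson p (P : Subgroup G) : Set G) := by
    refine (normalizer_le_normalizer_thompson p _).trans ?_
    rw [thompson_eq_of_le (T := (P : Subgroup G) ⊓ C) inf_le_left
      (le_inf (thompson_le p _) hJC)]
  obtain ⟨a, ha, c, hc, rfl⟩ := CfsgLib.Coprime.exists_mul_of_mem_sup
    (H := Subgroup.normalizer (((P : Subgroup G) ⊓ C : Subgroup G) : Set G)) (N := C)
    (by rw [Subgroup.normalizer_eq_top C]; exact le_top) (show g ∈ _ by rw [htop]; trivial)
  exact ⟨a, hle ha, c, hCX hc, rfl⟩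

end CfsgLib.Transfer.ThompsonFactor
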